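import Mathlib

/-!
No group can act on a finite non-abelian simple group `T`, containing the inner automorphisms and
respecting products of commuting elements, primitively on every orbit of non-identity elements:
that would make every centralizer a self-normalizing Sylow subgroup.
-/

namespace Cfsg.Agent.ExtremelyPrimitive.Conjugation

open MulAction Subgroup

variable {T : Type*} [Group T]

/-- A non-abelian simple group has no normal `p`-complement. -/
theorem not_normalizer_le_centralizer [Finite T] [IsSimpleGroup T] (hnc : ¬ IsMulCommutative T)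
    {p : ℕ} [Fact p.Prime] (P : Sylow p T) (hP : (P : Subgroup T) ≠ ⊥)
    (h : normalizer ((P : Subgroup T) : Set T) ≤ centralizer ((P : Subgroup T) : Set T)) : False := by
  haveI : (P : Subgroup T).FiniteIndex := inferInstance
  set K := (MonoidHom.transferSylow P h).ker
  have hK := MonoidHom.ker_transferSylow_isComplement' P h
  rcases (inferInstance : K.Normal).eq_bot_or_eq_top with hb | ht
  · have hPtop : (P : Subgroup T) = ⊤ := by
      have h' : K.IsComplement' (P : Subgroup T) := hK
      rwa [hb, isComplement'_bot_left] at h'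
    apply hnc
    refine ⟨⟨fun a b => ?_⟩⟩
    have hb' : b ∈ centralizer ((P : Subgroup T) : Set T) := h (le_normalizer (hPtop ▸ mem_top b))
    exact mem_centralizer_iff.mp hb' a (hPtop ▸ mem_top a)
  · have h' : K.IsComplement' (P : Subgroup T) := hK
    rw [ht, isComplement'_top_left] at h'
    exact hP h'

/-- If `|P : Z(P)|` is at most `p` then `P` is abelian. -/
theorem sq_mul_card_center_le [Finite T] {p : ℕ} [hp : Fact p.Prime] (P : Subgroup T)
    (hP : IsPGroup p P) (hnab : ¬ IsMulCommutative P) :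
    p ^ 2 * Nat.card (center P) ≤ Nat.card P := by
  rw [← (center P).index_mul_card]
  refine Nat.mul_le_mul_right _ ?_
  obtain ⟨n, hn⟩ := hP.index (center P)
  rw [hn]
  refine Nat.pow_le_pow_right hp.out.pos ?_
  by_contra hlt
  apply hnab
  haveI : IsCyclic (P ⧸ center P) := by
    have hc : Nat.card (P ⧸ center P) = p ^ n := hn
    rcases (show n = 0 ∨ n = 1 by omega) with rfl | rfl
    · haveI : Subsingleton (P ⧸ center P) := (Nat.card_eq_one_iff_unique.mp (by simpa using hc)).1
      exact isCyclic_of_subsingleton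
    · exact isCyclic_of_prime_card (by simpa using hc)
  exact MonoidHom.isMulCommutative_of_isCyclic_of_ker_le_center (QuotientGroup.mk' (center P))
    (by rw [QuotientGroup.ker_mk'])

/-- `Σ 1/p² ≤ 3/4`. -/
theorem sum_inv_sq_le (s : Finset ℕ) (hs : ∀ p ∈ s, 2 ≤ p) :
    ∑ p ∈ s, (1 / (p : ℚ) ^ 2) ≤ 3 / 4 := by
  have key : ∀ N : ℕ, 2 ≤ N → ∑ n ∈ Finset.Icc 2 N, (1 / (n : ℚ) ^ 2) ≤ 3 / 4 - 1 / (N : ℚ) := by
    intro N hN
    induction N, hN using Nat.le_induction with
    | base => norm_num
    | succ N hN ih =>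
      rw [Finset.sum_Icc_succ_top (by omega)]
      have hN' : (0 : ℚ) < N := by exact_mod_cast (show 0 < N by omega)
      have h : 1 / ((N + 1 : ℕ) : ℚ) ^ 2 ≤ 1 / (N : ℚ) - 1 / ((N + 1 : ℕ) : ℚ) := by
        push_cast
        rw [div_sub_div _ _ hN'.ne' (by positivity)]
        rw [div_le_div_iff₀ (by positivity) (by positivity)]
        nlinarith
      linarith
  set N := max 2 (s.sup id)
  have hsub : s ⊆ Finset.Icc 2 N := fun p hp =>
    Finset.mem_Icc.mpr ⟨hs p hp, le_trans (Finset.le_sup (f := id) hp) (le_max_right _ _)⟩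
  calc ∑ p ∈ s, (1 / (p : ℚ) ^ 2) ≤ ∑ n ∈ Finset.Icc 2 N, (1 / (n : ℚ) ^ 2) :=
        Finset.sum_le_sum_of_subset_of_nonneg hsub fun _ _ _ => by positivity
    _ ≤ 3 / 4 - 1 / (N : ℚ) := key N (le_max_left _ _)
    _ ≤ _ := by
      have : (0 : ℚ) ≤ 1 / (N : ℚ) := by positivity
      linarith

/-- A prime power decomposition: commuting with all elements of prime power order in `M`
means central in `M`. -/
theorem le_centralizer_of_prime_pow [Finite T] {M : Subgroup T} {c : T}
    (h : ∀ (p k : ℕ), p.Prime → ∀ a ∈ M, a ^ p ^ k = 1 → a * c = c * a) :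
    ∀ a ∈ M, a * c = c * a := by
  suffices H : ∀ n : ℕ, ∀ a ∈ M, orderOf a = n → a * c = c * a from fun a ha => H _ a ha rfl
  intro n
  induction n using Nat.recOnPrimeCoprime with
  | zero => intro a _ hao; exact absurd hao (orderOf_pos a).ne'
  | prime_pow p k hp => intro a ha hao; exact h p k hp a ha (hao ▸ pow_orderOf_eq_one a)
  | coprime m k hm hk hmk ihm ihk =>
    intro a ha hao
    have h1 : orderOf (a ^ k) = m := by
      rw [orderOf_pow' a (by omega), hao, Nat.gcd_eq_right (dvd_mul_left k m),
        Nat.mul_div_cancel m (by omega)]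
    have h2 : orderOf (a ^ m) = k := by
      rw [orderOf_pow' a (by omega), hao, Nat.gcd_eq_right (dvd_mul_right m k),
        Nat.mul_div_cancel_left k (by omega)]
    have c1 : Commute (a ^ k) c := ihm _ (M.pow_mem ha k) h1
    have c2 : Commute (a ^ m) c := ihk _ (M.pow_mem ha m) h2
    have hab : (1 : ℤ) = (m : ℤ) * Nat.gcdA m k + (k : ℤ) * Nat.gcdB m k := by
      rw [← Nat.gcd_eq_gcd_ab, Nat.coprime_iff_gcd_eq_one.mp hmk]; rfl
    have e : a = (a ^ m) ^ Nat.gcdA m k * (a ^ k) ^ Nat.gcdB m k := by
      rw [← zpow_natCast, ← zpow_natCast, ← zpow_mul, ← zpow_mul, ← zpow_add, ← hab, zpow_one]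
    rw [e]
    exact ((c2.zpow_left _).mul_left (c1.zpow_left _)).eq

variable {H : Type*} [Group H] [MulAction H T]

theorem impossible [Finite T] [IsSimpleGroup T] (hnc : ¬ IsMulCommutative T)
    (hinn : ∀ s : T, ∃ h : H, ∀ t : T, h • t = s * t * s⁻¹)
    (hcomm : ∀ (h : H) (a b : T), a * b = b * a → h • (a * b) = h • a * h • b)
    (hprim : ∀ t : T, t ≠ 1 → IsPreprimitive H (orbit H t)) : False := by
  classical
  have hsm : ∀ (h : H) (a : T), h • (a ^ 2) = (h • a) ^ 2 := fun h a => by
    rw [pow_two, pow_two, hcomm h a a rfl]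
  have h1 : ∀ h : H, h • (1 : T) = 1 := fun h => by
    have h2 := hcomm h 1 1 rfl
    rw [one_mul] at h2
    exact mul_left_cancel (a := h • (1 : T)) (by rw [mul_one]; exact h2.symm)
  have hpow : ∀ (h : H) (a : T) (n : ℕ), h • (a ^ n) = (h • a) ^ n := by
    intro h a n
    induction n with
    | zero => simpa using h1 h
    | succ n ih => rw [pow_succ, pow_succ, hcomm h _ _ ((Commute.refl a).pow_left n).eq, ih]
  have hC : ∀ (h : H) (a b : T), a * b = b * a → h • a * h • b = h • b * h • a := fun h a b hab => by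
    rw [← hcomm h a b hab, ← hcomm h b a hab.symm, hab]
  let C : T → Subgroup T := fun t => centralizer ({t} : Set T)
  have memC : ∀ {s t : T}, s ∈ C t ↔ s * t = t * s := fun {s t} => by
    rw [mem_centralizer_iff]
    simp only [Set.mem_singleton_iff, forall_eq]
    exact eq_comm
  have hCtop : ∀ t : T, t ≠ 1 → C t ≠ ⊤ := by
    intro t ht htop
    have hz : t ∈ center T := mem_center_iff.mpr fun s => memC.mp (htop ▸ mem_top s)
    rcases (inferInstance : (center T).Normal).eq_bot_or_eq_top with h | h
    · exact ht (by rwa [h, mem_bot] at hz)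
    · exact hnc ⟨⟨fun a b => mem_center_iff.mp (h ▸ mem_top b) a⟩⟩
  have hCne : ∀ t : T, t ≠ 1 → C t ≠ ⊥ := fun t ht h =>
    ht (by have := (memC (s := t) (t := t)).mpr rfl; rwa [h, mem_bot] at this)
  have hinnC : ∀ (s t : T) (h : H), (∀ u : T, h • u = s * u * s⁻¹) →
      (h ∈ stabilizer H t ↔ s ∈ C t) := fun s t h hh => by
    rw [mem_stabilizer_iff, hh, mul_inv_eq_iff_eq_mul, memC]
  -- stabilisers are maximal
  have hmax : ∀ t : T, t ≠ 1 → IsCoatom (stabilizer H t) := by
    intro t ht
    haveI := hprim t ht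
    haveI : Nontrivial (orbit H t) := by
      by_contra hss
      rw [not_nontrivial_iff_subsingleton] at hss
      refine hCtop t ht (eq_top_iff.mpr fun s _ => ?_)
      obtain ⟨h, hh⟩ := hinn s
      refine (hinnC s t h hh).mp ?_
      have := Subsingleton.elim (⟨h • t, mem_orbit t h⟩ : orbit H t) ⟨t, mem_orbit_self t⟩
      exact congrArg Subtype.val this
    have := IsPreprimitive.isCoatom_stabilizer_of_isPreprimitive H
      (⟨t, mem_orbit_self t⟩ : orbit H t)
    have e : stabilizer H (⟨t, mem_orbit_self t⟩ : orbit H t) = stabilizer H t := by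
      ext h
      simp [mem_stabilizer_iff, Subtype.ext_iff]
    rwa [e] at this
  -- the set stabiliser of `C t`
  have hnorm : ∀ t : T, t ≠ 1 → normalizer ((C t : Subgroup T) : Set T) ≤ C t := by
    intro t ht
    let U : Subgroup H :=
      { carrier := {h | ∀ x, h • x ∈ C t ↔ x ∈ C t}
        one_mem' := fun x => by rw [one_smul]
        mul_mem' := fun {a b} ha hb x => by rw [mul_smul, ha, hb]
        inv_mem' := fun {a} ha x => by rw [← ha, smul_inv_smul] }
    have hU : stabilizer H t ≤ U := by
      intro h hh x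
      have key : ∀ k ∈ stabilizer H t, ∀ y, y ∈ C t → k • y ∈ C t := fun k hk y hy => by
        have := hC k y t (memC.mp hy)
        rw [mem_stabilizer_iff.mp hk] at this
        exact memC.mpr this
      exact ⟨fun hx => inv_smul_smul h x ▸ key h⁻¹ ((stabilizer H t).inv_mem hh) _ hx, key h hh x⟩
    intro s hs
    obtain ⟨h, hh⟩ := hinn s
    have hhU : h ∈ U := fun x => by
      rw [hh]
      exact ((mem_normalizer_iff.mp hs) x).symm
    rcases eq_or_lt_of_le hU with he | hlt
    · exact (hinnC s t h hh).mp (he ▸ hhU)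
    · exfalso
      have hUtop := (hmax t ht).2 U hlt
      have hn : (C t).Normal := ⟨fun x hx g => by
        obtain ⟨k, hk⟩ := hinn g
        have hkU : k ∈ U := hUtop ▸ mem_top k
        rw [← hk x]
        exact (hkU x).mpr hx⟩
      rcases hn.eq_bot_or_eq_top with h' | h'
      · exact hCne t ht h'
      · exact hCtop t ht h'
  -- powers have the same centraliser
  have hCle : ∀ t u : T, u ≠ 1 → t ≠ 1 → stabilizer H t ≤ stabilizer H u → C t = C u := by
    intro t u hu ht hle
    have he : stabilizer H t = stabilizer H u := by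
      rcases eq_or_lt_of_le hle with h | h
      · exact h
      · exact absurd ((hmax t ht).2 _ h) (hmax u hu).1
    ext s
    obtain ⟨h, hh⟩ := hinn s
    rw [← hinnC s t h hh, ← hinnC s u h hh, he]
  have hCpow : ∀ (t : T) (n : ℕ), t ^ n ≠ 1 → C t = C (t ^ n) := fun t n hn =>
    hCle t (t ^ n) hn (fun h => hn (by rw [h, one_pow])) fun h hh => by
      rw [mem_stabilizer_iff, hpow, mem_stabilizer_iff.mp hh]
  have hCco : ∀ x y : T, x ≠ 1 → y ≠ 1 → x * y = y * x → Nat.Coprime (orderOf x) (orderOf y) →
      C x = C y := by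
    intro x y hx hy hxy hco
    have hmul : Commute x y := hxy
    have key : ∀ a b : T, Commute a b → a ≠ 1 → Nat.Coprime (orderOf a) (orderOf b) →
        C (a * b) = C a := by
      intro a b hab ha hco'
      have hne : (a * b) ^ orderOf b ≠ 1 := by
        rw [hab.mul_pow, pow_orderOf_eq_one, mul_one]
        intro h
        exact ha (orderOf_eq_one_iff.mp (Nat.Coprime.eq_one_of_dvd hco' (orderOf_dvd_of_pow_eq_one h)))
      have hne' : a ^ orderOf b ≠ 1 := by
        rwa [hab.mul_pow, pow_orderOf_eq_one, mul_one] at hne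
      rw [hCpow _ _ hne, hab.mul_pow, pow_orderOf_eq_one, mul_one, ← hCpow a _ hne']
    rw [← key x y hmul hx hco, ← key y x hmul.symm hy hco.symm, hxy]
  -- every centraliser of an element of prime order is non-abelian
  have hnab : ∀ (p : ℕ) [Fact p.Prime] (x : T), orderOf x = p → ¬ IsMulCommutative (C x) := by
    intro p _ x hxo hab
    have hp := (Fact.out : p.Prime)
    have hx : x ≠ 1 := fun h => hp.ne_one (by rw [← hxo, h, orderOf_one])
    have hxp : IsPGroup p (zpowers x) := IsPGroup.of_card (n := 1) (by rw [Nat.card_zpowers, hxo, pow_one])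
    obtain ⟨P, hxP⟩ := hxp.exists_le_sylow
    have hxP' : x ∈ (P : Subgroup T) := hxP (mem_zpowers x)
    haveI : Nontrivial (P : Subgroup T) :=
      ⟨⟨⟨x, hxP'⟩, 1, fun h => hx (congrArg Subtype.val h)⟩⟩
    -- a central element of `P` has the same centraliser
    obtain ⟨⟨⟨z, hzP⟩, hz⟩, hz1⟩ := @exists_ne _ P.2.center_nontrivial 1
    have hz1' : z ≠ 1 := fun h => hz1 (Subtype.ext (Subtype.ext h))
    have hzP' : ∀ a ∈ (P : Subgroup T), a * z = z * a := fun a ha =>
      congrArg Subtype.val (mem_center_iff.mp hz ⟨a, ha⟩)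
    have hzM : z ∈ C x := memC.mpr (hzP' x hxP').symm
    have hzo : ∃ k, orderOf z = p ^ k := by
      obtain ⟨k, hk⟩ := P.2 ⟨z, hzP⟩
      exact ((Nat.dvd_prime_pow hp).mp
        (orderOf_dvd_of_pow_eq_one (by simpa using congrArg Subtype.val hk))).imp fun i hi => hi.2
    have hPle : (P : Subgroup T) ≤ C x := by
      by_cases hq : IsPGroup p (C x)
      · -- a self-normalising `p`-subgroup is Sylow
        obtain ⟨Q, hQ⟩ := hq.exists_le_sylow
        rcases eq_or_lt_of_le hQ with he | hlt
        · have hQab : IsMulCommutative (Q : Subgroup T) := he ▸ hab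
          exfalso
          refine not_normalizer_le_centralizer hnc Q (he ▸ hCne x hx) ?_
          rw [← he]
          intro g hg
          rw [mem_centralizer_iff]
          intro a ha
          exact congrArg Subtype.val (mul_comm' (⟨a, ha⟩ : C x) ⟨g, hnorm x hx hg⟩)
        · exfalso
          haveI := Q.2.isNilpotent
          have h2 := Group.normalizerCondition_of_isNilpotent (G := (Q : Subgroup T))
            ((C x).subgroupOf Q) (lt_top_iff_ne_top.mpr fun h => hlt.not_ge (subgroupOf_eq_top.mp h))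
          obtain ⟨⟨g, hgQ⟩, hg, hg'⟩ := SetLike.exists_of_lt h2
          refine hg' (hnorm x hx (mem_normalizer_iff.mpr fun a => ?_))
          constructor
          · intro ha
            exact ((mem_normalizer_iff.mp hg) ⟨a, hQ ha⟩).mp ha
          · intro ha
            have haQ : a ∈ (Q : Subgroup T) := by
              have := (Q : Subgroup T).mul_mem ((Q : Subgroup T).mul_mem ((Q : Subgroup T).inv_mem hgQ) (hQ ha)) hgQ
              simpa [mul_assoc] using this
            exact ((mem_normalizer_iff.mp hg) ⟨a, haQ⟩).mpr ha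
      · obtain ⟨y, hy, q, hq', hqp, hyo⟩ : ∃ y ∈ C x, ∃ q : ℕ, q.Prime ∧ q ≠ p ∧ orderOf y = q := by
          by_contra hcon
          push Not at hcon
          apply hq
          refine IsPGroup.of_card (n := (Nat.card (C x)).primeFactorsList.length)
            (Nat.eq_prime_pow_of_unique_prime_dvd Nat.card_pos.ne' fun {d} hd hdd => ?_)
          haveI := Fact.mk hd
          obtain ⟨⟨y, hy⟩, hyo⟩ := exists_prime_orderOf_dvd_card' d hdd
          rw [Subgroup.orderOf_mk] at hyo
          by_contra hdp
          exact hcon y hy d hd hdp hyo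
        have hy1 : y ≠ 1 := fun h => hq'.ne_one (by rw [← hyo, h, orderOf_one])
        have hxy : C x = C y := hCco x y hx hy1 (memC.mp hy).symm
          (by rw [hxo, hyo]; exact (Nat.coprime_primes hp hq').mpr hqp.symm)
        have hzy : z * y = y * z := congrArg Subtype.val (mul_comm' (⟨z, hzM⟩ : C x) ⟨y, hy⟩)
        obtain ⟨k, hk⟩ := hzo
        have hzC : C z = C y := hCco z y hz1' hy1 hzy
          (by rw [hk, hyo]; exact ((Nat.coprime_primes hp hq').mpr hqp.symm).pow_left k)
        intro a ha
        rw [hxy, ← hzC]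
        exact memC.mpr (hzP' a ha)
    refine not_normalizer_le_centralizer hnc P
      ((nontrivial_iff_ne_bot _).mp inferInstance) ?_
    have hcx : ∀ a ∈ C x, a ∈ centralizer ((P : Subgroup T) : Set T) := fun a ha => by
      rw [mem_centralizer_iff]
      intro b hb
      exact congrArg Subtype.val (mul_comm' (⟨b, hPle hb⟩ : C x) ⟨a, ha⟩)
    intro g hg
    refine hcx g (hnorm x hx ?_)
    -- `C x` is the centraliser of `P`
    have hCP : centralizer ((P : Subgroup T) : Set T) = C x :=
      le_antisymm (fun a ha => memC.mpr (mem_centralizer_iff.mp ha x hxP').symm) hcx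
    rw [← hCP]
    exact mem_normalizer_iff.mpr fun a => by
      simp only [mem_centralizer_iff]
      constructor
      · intro ha b hb
        have h3 := ha (g⁻¹ * b * g) (((mem_normalizer_iff''.mp hg) b).mp hb)
        calc b * (g * a * g⁻¹) = g * ((g⁻¹ * b * g) * a) * g⁻¹ := by group
          _ = g * (a * (g⁻¹ * b * g)) * g⁻¹ := by rw [h3]
          _ = g * a * g⁻¹ * b := by group
      · intro ha b hb
        have h3 := ha (g * b * g⁻¹) (((mem_normalizer_iff.mp hg) b).mp hb)
        calc b * a = g⁻¹ * ((g * b * g⁻¹) * (g * a * g⁻¹)) * g := by group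
          _ = g⁻¹ * ((g * a * g⁻¹) * (g * b * g⁻¹)) * g := by rw [h3]
          _ = a * b := by group
  -- hence every centraliser is a Sylow subgroup
  have hsyl : ∀ (p : ℕ) [Fact p.Prime] (t : T), t ≠ 1 → p ∣ orderOf t →
      ∃ P : Sylow p T, (P : Subgroup T) = C t := by
    intro p _ t ht hpt
    have hp := (Fact.out : p.Prime)
    set n := orderOf t / p
    have hxo : orderOf (t ^ n) = p := orderOf_pow_orderOf_div (orderOf_pos t).ne' hpt
    have hx : t ^ n ≠ 1 := fun h => hp.ne_one (by rw [← hxo, h, orderOf_one])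
    rw [hCpow t n hx]
    set x := t ^ n
    have hpg : IsPGroup p (C x) := by
      by_contra hnp
      apply hnab p x hxo
      -- everything of prime power order is central in `C x`
      obtain ⟨y, hy, q, hq, hqp, hyo⟩ : ∃ y ∈ C x, ∃ q : ℕ, q.Prime ∧ q ≠ p ∧ orderOf y = q := by
        by_contra hcon
        push Not at hcon
        apply hnp
        refine IsPGroup.of_card (n := (Nat.card (C x)).primeFactorsList.length)
          (Nat.eq_prime_pow_of_unique_prime_dvd Nat.card_pos.ne' fun {d} hd hdd => ?_)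
        haveI := Fact.mk hd
        obtain ⟨⟨y, hy⟩, hyo⟩ := exists_prime_orderOf_dvd_card' d hdd
        rw [Subgroup.orderOf_mk] at hyo
        by_contra hdp
        exact hcon y hy d hd hdp hyo
      have hy1 : y ≠ 1 := fun h => hq.ne_one (by rw [← hyo, h, orderOf_one])
      have hxy : C x = C y := hCco x y hx hy1 (memC.mp hy).symm
        (by rw [hxo, hyo]; exact (Nat.coprime_primes hp hq).mpr hqp.symm)
      have hprimary : ∀ (r k : ℕ), r.Prime → ∀ a ∈ C x, a ^ r ^ k = 1 →
          ∀ b ∈ C x, b * a = a * b := by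
        intro r k hr a ha hak b hb
        rcases eq_or_ne a 1 with rfl | ha1
        · simp
        obtain ⟨j, -, hj⟩ := (Nat.dvd_prime_pow hr).mp (orderOf_dvd_of_pow_eq_one hak)
        have hCa : C a = C x := by
          by_cases hrp : r = p
          · subst hrp
            rw [hxy]
            exact hCco a y ha1 hy1 (memC.mp (hxy ▸ ha))
              (by rw [hj, hyo]; exact ((Nat.coprime_primes hr hq).mpr hqp.symm).pow_left j)
          · exact hCco a x ha1 hx (memC.mp ha)
              (by rw [hj, hxo]; exact ((Nat.coprime_primes hr hp).mpr hrp).pow_left j)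
        exact memC.mp (hCa ▸ hb)
      refine ⟨⟨fun a b => Subtype.ext ?_⟩⟩
      exact le_centralizer_of_prime_pow (M := C x) (c := (b : T))
        (fun r k hr u hu huk => (hprimary r k hr u hu huk b b.2).symm) a a.2
    obtain ⟨Q, hQ⟩ := hpg.exists_le_sylow
    refine ⟨Q, ?_⟩
    by_contra hne
    have hlt : C x < (Q : Subgroup T) := lt_of_le_of_ne hQ (Ne.symm hne)
    haveI := Q.2.isNilpotent
    have h2 := Group.normalizerCondition_of_isNilpotent (G := (Q : Subgroup T))
      ((C x).subgroupOf Q) (lt_top_iff_ne_top.mpr fun h => hlt.not_ge (subgroupOf_eq_top.mp h))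
    obtain ⟨⟨g, hgQ⟩, hg, hg'⟩ := SetLike.exists_of_lt h2
    refine hg' (hnorm x hx (mem_normalizer_iff.mpr fun a => ?_))
    constructor
    · intro ha
      exact ((mem_normalizer_iff.mp hg) ⟨a, hQ ha⟩).mp ha
    · intro ha
      have haQ : a ∈ (Q : Subgroup T) := by
        have := (Q : Subgroup T).mul_mem ((Q : Subgroup T).mul_mem ((Q : Subgroup T).inv_mem hgQ) (hQ ha)) hgQ
        simpa [mul_assoc] using this
      exact ((mem_normalizer_iff.mp hg) ⟨a, haQ⟩).mpr ha
  -- counting
  haveI := Fintype.ofFinite T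
  let A : ℕ → Finset T := fun p => Finset.univ.filter fun t => t ≠ 1 ∧ p ∣ orderOf t
  have hA : ∀ p ∈ (Nat.card T).primeFactors, p ^ 2 * (A p).card ≤ Nat.card T := by
    intro p hpmem
    have hp := Nat.prime_of_mem_primeFactors hpmem
    haveI := Fact.mk hp
    obtain ⟨x, hxo⟩ := exists_prime_orderOf_dvd_card' (G := T) p (Nat.dvd_of_mem_primeFactors hpmem)
    have hx : x ≠ 1 := fun h => hp.ne_one (by rw [← hxo, h, orderOf_one])
    have hCxp : C x ≠ ⊥ := hCne x hx
    obtain ⟨P₀, hP₀⟩ := hsyl p x hx (hxo.symm ▸ dvd_rfl)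
    have hnabP : ∀ P : Sylow p T, ¬ IsMulCommutative (P : Subgroup T) := fun P hPab => by
      refine hnab p x hxo ?_
      rw [← hP₀]
      let e := (Sylow.equiv P₀ P)
      exact ⟨⟨fun a b => e.injective (by rw [map_mul, map_mul, mul_comm'])⟩⟩
    have hN : normalizer ((P₀ : Subgroup T) : Set T) = (P₀ : Subgroup T) :=
      le_antisymm (by rw [hP₀]; exact hnorm x hx) le_normalizer
    have hnum : Nat.card (Sylow p T) * Nat.card (P₀ : Subgroup T) = Nat.card T := by
      have hN' : normalizer (P₀ : Set T) = (P₀ : Subgroup T) := hN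
      rw [Sylow.card_eq_index_normalizer P₀, hN', index_mul_card]
    -- the injection
    have hsel : ∀ t : {t // t ∈ A p}, ∃ s : Σ P : Sylow p T, center (P : Subgroup T),
        ((s.2 : (s.1 : Subgroup T)) : T) = t.1 := by
      rintro ⟨t, ht⟩
      simp only [A, Finset.mem_filter, Finset.mem_univ, true_and] at ht
      obtain ⟨P, hP⟩ := hsyl p t ht.1 ht.2
      have htP : t ∈ (P : Subgroup T) := hP ▸ memC.mpr rfl
      exact ⟨⟨P, ⟨t, htP⟩, mem_center_iff.mpr fun a => Subtype.ext (memC.mp (hP ▸ a.2))⟩, rfl⟩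
    choose sel hselt using hsel
    have hinj : Function.Injective sel := fun a b h => Subtype.ext (by rw [← hselt a, ← hselt b, h])
    have hcard := Nat.card_le_card_of_injective sel hinj
    rw [Nat.card_eq_fintype_card, Fintype.card_coe] at hcard
    haveI := Fintype.ofFinite (Sylow p T)
    rw [Nat.card_sigma] at hcard
    calc p ^ 2 * (A p).card ≤ p ^ 2 * ∑ P : Sylow p T, Nat.card (center (P : Subgroup T)) :=
          Nat.mul_le_mul_left _ hcard
      _ = ∑ P : Sylow p T, p ^ 2 * Nat.card (center (P : Subgroup T)) := Finset.mul_sum _ _ _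
      _ ≤ ∑ P : Sylow p T, Nat.card (P : Subgroup T) :=
          Finset.sum_le_sum fun P _ => sq_mul_card_center_le _ P.2 (hnabP P)
      _ = Nat.card (Sylow p T) * Nat.card (P₀ : Subgroup T) := by
          rw [Finset.sum_congr rfl fun (P : Sylow p T) _ => show Nat.card (P : Subgroup T) = Nat.card (P₀ : Subgroup T) from
            Nat.card_congr (Sylow.equiv P P₀).toEquiv, Finset.sum_const, smul_eq_mul, Finset.card_univ,
            Nat.card_eq_fintype_card (α := Sylow p T)]
      _ = Nat.card T := hnum
  have hcover : (Finset.univ.erase (1 : T)) ⊆ (Nat.card T).primeFactors.biUnion A := by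
    intro t ht
    have ht1 : t ≠ 1 := Finset.ne_of_mem_erase ht
    obtain ⟨p, hp, hpd⟩ := Nat.exists_prime_and_dvd (mt orderOf_eq_one_iff.mp ht1)
    exact Finset.mem_biUnion.mpr ⟨p, Nat.mem_primeFactors.mpr
      ⟨hp, hpd.trans (orderOf_dvd_natCard t), Nat.card_pos.ne'⟩,
      Finset.mem_filter.mpr ⟨Finset.mem_univ t, ht1, hpd⟩⟩
  have hle := (Finset.card_le_card hcover).trans Finset.card_biUnion_le
  rw [Finset.card_erase_of_mem (Finset.mem_univ 1), Finset.card_univ, ← Nat.card_eq_fintype_card]
    at hle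
  have hn5 : 5 ≤ Nat.card T := by
    by_contra hlt
    apply hnc
    haveI : Fact (Nat.Prime 2) := ⟨Nat.prime_two⟩
    rcases (show Nat.card T = 1 ∨ Nat.card T = 2 ∨ Nat.card T = 3 ∨ Nat.card T = 4 by
      have := Nat.card_pos (α := T); omega) with h | h | h | h
    · haveI := (Nat.card_eq_one_iff_unique.mp h).1; exact ⟨⟨fun a b => Subsingleton.elim _ _⟩⟩
    · haveI := isCyclic_of_prime_card h; exact IsCyclic.isMulCommutative
    · haveI : Fact (Nat.Prime 3) := ⟨Nat.prime_three⟩
      haveI := isCyclic_of_prime_card h; exact IsCyclic.isMulCommutative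
    · exact ⟨⟨IsPGroup.commutative_of_card_eq_prime_sq (p := 2) (by rw [h]; norm_num)⟩⟩
  have hq : ((Nat.card T - 1 : ℕ) : ℚ) ≤ (Nat.card T : ℚ) * (3 / 4) := by
    calc ((Nat.card T - 1 : ℕ) : ℚ) ≤ ((∑ p ∈ (Nat.card T).primeFactors, (A p).card : ℕ) : ℚ) := by
          exact_mod_cast hle
      _ = ∑ p ∈ (Nat.card T).primeFactors, ((A p).card : ℚ) := Nat.cast_sum _ _
      _ ≤ ∑ p ∈ (Nat.card T).primeFactors, (Nat.card T : ℚ) * (1 / (p : ℚ) ^ 2) := by
          refine Finset.sum_le_sum fun p hp => ?_
          have hp0 : (0 : ℚ) < (p : ℚ) ^ 2 := by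
            have := (Nat.prime_of_mem_primeFactors hp).pos
            positivity
          rw [← mul_div_assoc, mul_one, le_div_iff₀ hp0, mul_comm]
          exact_mod_cast hA p hp
      _ = (Nat.card T : ℚ) * ∑ p ∈ (Nat.card T).primeFactors, (1 / (p : ℚ) ^ 2) := (Finset.mul_sum _ _ _).symm
      _ ≤ _ := by
          refine mul_le_mul_of_nonneg_left (sum_inv_sq_le _ fun p hp => ?_) (by positivity)
          exact (Nat.prime_of_mem_primeFactors hp).two_le
  rw [Nat.cast_sub (by omega)] at hq
  have : (5 : ℚ) ≤ (Nat.card T : ℚ) := by exact_mod_cast hn5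
  push_cast at hq
  linarith

end Cfsg.Agent.ExtremelyPrimitive.Conjugation
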