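import Cfsg.Agent.Lib.ExtremelyPrimitive.Basic
import Cfsg.Agent.Lib.ExtremelyPrimitive.Conjugation
import Cfsg.Agent.Lib.Socle.Primitive
import Cfsg.Agent.Lib.Perm.RegularNormal

/-!
An extremely primitive group with a non-abelian minimal normal subgroup is almost simple
(Mann–Praeger–Seress), without the odd order theorem.
-/

namespace Cfsg.Agent.ExtremelyPrimitive

open MulAction Subgroup Socle

variable {G Ω : Type*} [Group G] [MulAction G Ω]

/-- No stabiliser is primitive on all orbits when a simple subgroup is regular and the stabiliser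
induces its inner automorphisms on the points. -/
theorem regular_simple_false [Finite G] (hep : IsEP G Ω) {α : Ω} (T : Subgroup G)
    (hs : IsSimpleGroup T) (hnc : ¬ IsMulCommutative T) (htr : IsPretransitive T Ω)
    (hsr : ∀ a : Ω, stabilizer T a = ⊥)
    (hinn : ∀ s ∈ T, ∃ h : G, h • α = α ∧ ∀ t ∈ T, h • t • α = (s * t * s⁻¹) • α)
    (hcomm : ∀ h : G, h • α = α → ∀ a ∈ T, ∀ b ∈ T, a * b = b * a → ∀ a' ∈ T, ∀ b' ∈ T,
      a' • α = h • a • α → b' • α = h • b • α → (a' * b') • α = h • (a * b) • α) : False := by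
  haveI := htr
  haveI := hs
  let e : T ≃ Ω := Equiv.ofBijective _ (Perm.bijective_smul_of_regular (a := α) (hsr α))
  letI : MulAction (stabilizer G α) T := e.mulAction _
  have he : ∀ (h : stabilizer G α) (t : T), e (h • t) = (h : G) • (t : G) • α := fun h t =>
    e.apply_symm_apply _
  refine Conjugation.impossible (T := T) (H := stabilizer G α) hnc ?_ ?_ ?_
  · intro s
    obtain ⟨h, hh, hst⟩ := hinn s s.2
    refine ⟨⟨h, hh⟩, fun t => e.injective ?_⟩
    rw [he]
    exact hst t t.2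
  · intro h a b hab
    apply e.injective
    rw [he]
    refine (hcomm h h.2 a a.2 b b.2 (congrArg Subtype.val hab) _ (h • a).2 _ (h • b).2
      (he h a) (he h b)).symm
  · intro t _
    let f : orbit (stabilizer G α) t →ₑ[(id : stabilizer G α → stabilizer G α)]
        orbit (stabilizer G α) ((t : G) • α) :=
      { toFun := fun x => ⟨e x.1, by
          obtain ⟨k, hk⟩ := x.2
          exact ⟨k, by rw [← hk]; exact (he k t).symm⟩⟩
        map_smul' := fun k x => Subtype.ext (he k x.1) }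
    have hf : Function.Bijective f := by
      constructor
      · intro x y hxy
        exact Subtype.ext (e.injective (congrArg Subtype.val hxy))
      · rintro ⟨y, k, hk⟩
        exact ⟨⟨k • t, mem_orbit t k⟩, Subtype.ext ((he k t).trans hk)⟩
    exact (isPreprimitive_congr (f := f) Function.surjective_id hf).mpr (hep α _)

variable [Finite G] [FaithfulSMul G Ω] [IsPreprimitive G Ω]

omit [Finite G] in
/-- The case of two regular normal subgroups. -/
theorem regular_pair_false [Finite G] (hep : IsEP G Ω) (α : Ω) {T : Subgroup G} [T.Normal]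
    (hs : IsSimpleGroup T) (hnc : ¬ IsMulCommutative T) (hC : centralizer (T : Set G) ≠ ⊥) : False := by
  haveI := hs
  have hT : T ≠ ⊥ := (nontrivial_iff_ne_bot T).mp inferInstance
  obtain ⟨htr, hsr⟩ := Perm.regular_of_commuting_normal (α := Ω) hT hC (le_centralizer_iff.mp le_rfl)
  obtain ⟨hCtr, -⟩ := Perm.regular_of_commuting_normal (α := Ω) hC hT le_rfl
  refine regular_simple_false hep (α := α) T hs hnc htr hsr ?_ ?_
  · intro s hs'
    obtain ⟨c, hc, hcs⟩ := Perm.isPretransitive_subgroup_iff.1 hCtr α (s • α)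
    refine ⟨c⁻¹ * s, by rw [mul_smul, inv_smul_eq_iff, hcs], fun t ht => ?_⟩
    have hci := inv_mem hc
    have h2 : c⁻¹ • α = s⁻¹ • α := by
      have h3 := mem_centralizer_iff.mp hci s hs'
      rw [eq_inv_smul_iff, ← mul_smul, h3, mul_smul, inv_smul_eq_iff, hcs]
    rw [mul_smul, mul_smul _ s⁻¹, ← h2, ← mul_smul s t, ← mul_smul, ← mul_smul,
      mem_centralizer_iff.mp hci _ (T.mul_mem hs' ht)]
  · intro h hh a ha b hb _ a' ha' b' hb' hae hbe
    rw [← Perm.conj_smul_eq hh] at hae hbe ⊢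
    have e1 := Perm.eq_of_smul_eq (hsr α) ha' (‹T.Normal›.conj_mem a ha h) hae
    have e2 := Perm.eq_of_smul_eq (hsr α) hb' (‹T.Normal›.conj_mem b hb h) hbe
    rw [e1, e2]
    congr 1
    group

/-- Points reached from a class of factors: normalisers of a factor fix its points. -/
theorem fixes_of_classes (hep : IsEP G Ω) {α : Ω} {N : Subgroup G} [N.Normal]
    {𝒯 : Set (Subgroup G)} (hF : IsFactors N 𝒯) (L : Subgroup G → Subgroup G → Prop)
    (hLconj : ∀ (h : G), h • α = α → ∀ U V, L U V → L (conjSub h U) (conjSub h V))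
    (hLsymm : ∀ U V, L U V → L V U)
    (huniq : ∀ U ∈ 𝒯, ∀ V ∈ 𝒯, ∀ u ∈ U, ∀ v ∈ V, u • α = v • α → u • α ≠ α → U = V ∨ L U V)
    (hone : ∀ U ∈ 𝒯, ∀ V ∈ 𝒯, ∀ W ∈ 𝒯, L U V → L U W → V = W)
    {T S : Subgroup G} (hT : T ∈ 𝒯) (hS : S ∈ 𝒯) (hTS : ¬ (T = S ∨ L T S)) {t : G} (ht : t ∈ T)
    (hta : t • α ≠ α) {h : G} (hh : h • α = α) (hnorm : conjSub h T = T) :
    h • t • α = t • α := by
  let R : Subgroup G → Subgroup G → Prop := fun U V => U = V ∨ L U V
  have Rtrans : ∀ U ∈ 𝒯, ∀ V ∈ 𝒯, ∀ W ∈ 𝒯, R U V → R V W → R U W := by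
    intro U hU V hV W hW h1 h2
    rcases h1 with rfl | h1
    · exact h2
    rcases h2 with rfl | h2
    · exact Or.inr h1
    · exact Or.inl (hone V hV U hU W hW (hLsymm _ _ h1) h2)
  let Cls : Ω → Set (Subgroup G) := fun x =>
    {U | U ∈ 𝒯 ∧ ∃ V ∈ 𝒯, R U V ∧ ∃ v ∈ V, v • α = x}
  have Cls_smul : ∀ g : G, g • α = α → ∀ x U, U ∈ Cls x → conjSub g U ∈ Cls (g • x) := by
    rintro g hg x U ⟨hU, V, hV, hUV, v, hv, rfl⟩
    refine ⟨hF.conj_mem U hU g, conjSub g V, hF.conj_mem V hV g, ?_, _, conj_mem_conjSub hv,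
      Perm.conj_smul_eq hg v⟩
    rcases hUV with rfl | hUV
    · exact Or.inl rfl
    · exact Or.inr (hLconj g hg U V hUV)
  let O := orbit (stabilizer G α) (t • α)
  haveI := hep α (t • α)
  let r : O → O → Prop := fun x y => Cls x.1 = Cls y.1
  have hr : Equivalence r := ⟨fun _ => rfl, fun h => h.symm, fun h h' => h.trans h'⟩
  have hinv : ∀ (g : stabilizer G α) (x y : O), r x y → r (g • x) (g • y) := by
    intro g x y hxy
    have key : ∀ x y : O, r x y → Cls ((g : G) • x.1) ⊆ Cls ((g : G) • y.1) := by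
      intro x y hxy U hU
      have h1 := Cls_smul (g : G)⁻¹ ((stabilizer G α).inv_mem g.2) _ _ hU
      rw [inv_smul_smul, hxy] at h1
      have h2 := Cls_smul (g : G) g.2 _ _ h1
      rwa [conjSub_mul, mul_inv_cancel, conjSub_one] at h2
    exact Set.Subset.antisymm (key x y hxy) (key y x hxy.symm)
  -- the class of a point of a factor
  have hCls : ∀ U ∈ 𝒯, ∀ u ∈ U, u • α ≠ α → ∀ W ∈ Cls (u • α), R W U := by
    rintro U hU u hu hua W ⟨hW, V, hV, hWV, v, hv, hve⟩
    exact Rtrans W hW V hV U hU hWV (huniq V hV U hU v hv u hu hve (hve ▸ hua))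
  have hx : Cls ((h : G) • t • α) = Cls (t • α) := by
    have e : h • t • α = (h * t * h⁻¹) • α := (Perm.conj_smul_eq hh t).symm
    have hm : h * t * h⁻¹ ∈ T := hnorm ▸ conj_mem_conjSub ht
    have hne : (h * t * h⁻¹) • α ≠ α := fun h' => by
      rw [← e, smul_eq_iff_eq_inv_smul, inv_smul_eq_iff.mpr hh.symm] at h'
      exact hta h'
    rw [e]
    refine Set.Subset.antisymm (fun W hW => ?_) (fun W hW => ?_)
    · exact ⟨hW.1, T, hT, hCls T hT _ hm hne W hW, t, ht, rfl⟩
    · exact ⟨hW.1, T, hT, hCls T hT _ ht hta W hW, _, hm, rfl⟩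
  by_contra hne
  let x₀ : O := ⟨t • α, mem_orbit_self _⟩
  let y₀ : O := ⟨h • t • α, ⟨⟨h, hh⟩, rfl⟩⟩
  obtain ⟨g, hg, hgT⟩ := exists_stabilizer_conj (α := Ω) hF α hT hS
  have hall := Perm.equivalence_trivial (G := stabilizer G α) hr hinv
    (a := x₀) (b := y₀) hx.symm (fun e => hne (congrArg Subtype.val e).symm)
    ⟨g • t • α, ⟨⟨g, hg⟩, rfl⟩⟩
  have hTx : T ∈ Cls (t • α) := ⟨hT, T, hT, Or.inl rfl, t, ht, rfl⟩
  have hgm := Cls_smul g hg _ _ hTx
  rw [hgT] at hgm
  have hSx : S ∈ Cls (t • α) := by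
    have : Cls (t • α) = Cls (g • t • α) := hall
    rw [this]; exact hgm
  rcases hCls T hT t ht hta S hSx with h' | h'
  · exact hTS (Or.inl h'.symm)
  · exact hTS (Or.inr (hLsymm _ _ h'))

/-- Two factors carrying a non-trivial element of the stabiliser supported on them. -/
def Linked {N : Subgroup G} {𝒯 : Set (Subgroup G)} (hF : IsFactors N 𝒯) (α : Ω)
    (U V : Subgroup G) : Prop :=
  U ≠ V ∧ U ∈ 𝒯 ∧ V ∈ 𝒯 ∧ ∃ n : N, n ≠ 1 ∧ (n : G) • α = α ∧
    ∀ W (hW : W ∈ 𝒯), W ≠ U → W ≠ V → hF.coord hW n = 1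

/-- More than one factor is impossible. -/
theorem not_two_factors (hep : IsEP G Ω) (α : Ω) {N : Subgroup G} [hN : N.Normal]
    (hne : N ≠ ⊥) (hnc : ¬ IsMulCommutative N)
    {𝒯 : Set (Subgroup G)} (hF : IsFactors N 𝒯) {T S : Subgroup G} (hT : T ∈ 𝒯) (hS : S ∈ 𝒯)
    (hST : S ≠ T) : False := by
  haveI : Nonempty Ω := ⟨α⟩
  have hother : ∀ U, ∃ V ∈ 𝒯, U ≠ V := fun U => by
    by_cases h : U = T
    · exact ⟨S, hS, h ▸ hST.symm⟩
    · exact ⟨T, hT, h⟩
  have htr : IsPretransitive N Ω := transitive_of_factors hF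
  rcases dichotomy (α := Ω) hF with hA | ⟨hB, hfix⟩
  swap
  · -- product action
    obtain ⟨⟨t₀, ht₀, htd⟩, r, hr, hr1, hrd⟩ := hB T hT
    obtain ⟨S', hS', hTS'⟩ := hother T
    have hall : ∀ t ∈ T, t • α ≠ α → ∀ x ∈ T, x • α = α → (t⁻¹ * x * t) • α = α := by
      intro t ht hta x hx hxa
      have h := fixes_of_classes hep hF (fun _ _ => False) (fun _ _ _ _ h => h) (fun _ _ h => h)
        (fun U hU V hV u hu v hv he hne => by
          by_contra hcon
          rw [or_false] at hcon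
          have hn : ((⟨u⁻¹ * v, N.mul_mem (N.inv_mem (hF.le U hU hu)) (hF.le V hV hv)⟩ : N) : G) • α = α := by
            show (u⁻¹ * v) • α = α
            rw [mul_smul, ← he, inv_smul_smul]
          have h1 := hfix _ U hU α hn
          rw [show (⟨u⁻¹ * v, N.mul_mem (N.inv_mem (hF.le U hU hu)) (hF.le V hV hv)⟩ : N) =
            (⟨u, hF.le U hU hu⟩ : N)⁻¹ * ⟨v, hF.le V hV hv⟩ from rfl, map_mul, map_inv,
            hF.coord_self hU (n := ⟨u, hF.le U hU hu⟩) hu,
            hF.coord_of_ne hU hV hcon (n := ⟨v, hF.le V hV hv⟩) hv, mul_one, inv_smul_eq_iff] at h1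
          exact hne h1.symm)
        (fun _ _ _ _ _ _ h => h.elim) hT hS' (by rw [or_false]; exact hTS') ht hta hxa
        (hF.conjSub_eq_of_mem hT (hF.le T hT hx))
      rw [mul_smul, mul_smul, inv_smul_eq_iff, h]
    let R : Subgroup G := T ⊓ stabilizer G α
    have hRn : T ≤ normalizer (R : Set G) := by
      intro t ht
      by_cases hta : t • α = α
      · exact le_normalizer (⟨ht, hta⟩ : t ∈ R)
      have key : ∀ t ∈ T, t • α ≠ α → ∀ x ∈ R, t⁻¹ * x * t ∈ R := fun t ht hta x hx =>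
        ⟨T.mul_mem (T.mul_mem (T.inv_mem ht) hx.1) ht, hall t ht hta x hx.1 hx.2⟩
      have hta' : t⁻¹ • α ≠ α := fun h => hta (by rw [inv_smul_eq_iff] at h; exact h.symm)
      rw [mem_normalizer_iff]
      intro x
      constructor
      · intro hx
        have := key t⁻¹ (T.inv_mem ht) hta' x hx
        rwa [inv_inv] at this
      · intro hx
        have := key t ht hta _ hx
        simpa [mul_assoc] using this
    rcases hF.eq_bot_or_eq hT (L := R) inf_le_left hRn with h | h
    · simp only [IsDerangement, not_forall, not_not] at hrd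
      obtain ⟨b, hb⟩ := hrd
      obtain ⟨m, hm, hmb⟩ := Perm.isPretransitive_subgroup_iff.1 htr b α
      have hmem : m * r * m⁻¹ ∈ R := by
        refine ⟨?_, ?_⟩
        · rw [← hF.conjSub_eq_of_mem hT hm]; exact conj_mem_conjSub hr
        · show (m * r * m⁻¹) • α = α
          rw [← hmb, mul_smul, mul_smul, inv_smul_smul, hb]
      rw [h, Subgroup.mem_bot, conj_eq_one_iff] at hmem
      exact hr1 hmem
    · exact htd α (h.ge ht₀).2
  -- each factor is semiregular
  have hsr : ∀ U ∈ 𝒯, ∀ u ∈ U, ∀ v ∈ U, ∀ a : Ω, u • a = v • a → u = v := by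
    intro U hU u hu v hv a he
    by_contra hne'
    exact hA U hU (u⁻¹ * v) (U.mul_mem (U.inv_mem hu) hv) (fun h => hne' (inv_mul_eq_one.mp h)) a
      (by rw [mul_smul, ← he, inv_smul_smul])
  by_cases hfull : ∀ U (hU : U ∈ 𝒯), projStab hF α hU = U
  swap
  · -- regular case
    have hprop : ∀ U (hU : U ∈ 𝒯), projStab hF α hU ≠ U := by
      simp only [not_forall] at hfull
      obtain ⟨U, hU, hne'⟩ := hfull
      intro V hV h
      obtain ⟨g, hg, hgV⟩ := exists_stabilizer_conj (α := Ω) hF α hV hU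
      refine hne' (le_antisymm (projStab_le hF α hU) ?_)
      calc U = conjSub g (projStab hF α hV) := by rw [h, hgV]
        _ ≤ _ := conjSub_projStab_le hF α hV hU hg hgV
    have hreg : ∀ n : N, (n : G) • α = α → n = 1 := by
      intro n hn
      refine hF.coord_ext fun U hU => ?_
      rw [map_one]
      have hc := hF.coord_mem hU n
      have hfixc : hF.coord hU n • α = α := fixes_of_coords hF (coords_fix hF hprop) hn hU
      exact hsr U hU _ hc 1 U.one_mem α (by rw [hfixc, one_smul])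
    have hcent : ∀ U (hU : U ∈ 𝒯), ∀ h : G, h • α = α → conjSub h U = U →
        ∀ u ∈ U, h * u * h⁻¹ = u := by
      intro U hU h hh hnorm u hu
      rcases eq_or_ne u 1 with rfl | hu1
      · simp
      obtain ⟨V, hV, hUV⟩ := hother U
      have h' := fixes_of_classes hep hF (fun _ _ => False) (fun _ _ _ _ h => h) (fun _ _ h => h)
        (fun U' hU' V' hV' u' hu' v' hv' he hne' => by
          by_contra hcon
          rw [or_false] at hcon
          have h1 := congrArg (hF.coord hU') (hreg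
            ((⟨u', hF.le U' hU' hu'⟩ : N)⁻¹ * ⟨v', hF.le V' hV' hv'⟩) (by
              show (u'⁻¹ * v') • α = α
              rw [mul_smul, ← he, inv_smul_smul]))
          rw [map_mul, map_inv, hF.coord_self hU' (n := ⟨u', hF.le U' hU' hu'⟩) hu',
            hF.coord_of_ne hU' hV' hcon (n := ⟨v', hF.le V' hV' hv'⟩) hv', mul_one, map_one,
            inv_eq_one] at h1
          have h1' : u' = 1 := h1
          exact hne' (by rw [h1', one_smul]))
        (fun _ _ _ _ _ _ h => h.elim) hU hV (by rw [or_false]; exact hUV) hu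
        (hA U hU u hu hu1 α) hh hnorm
      rw [← Perm.conj_smul_eq hh] at h'
      exact hsr U hU _ (hnorm ▸ conj_mem_conjSub hu) u hu α h'
    -- a diagonal element centralised by the stabiliser
    haveI := hF.simple T hT
    obtain ⟨⟨t, ht⟩, ht1⟩ := exists_ne (1 : T)
    choose g hg hgT using fun U (hU : U ∈ 𝒯) => exists_stabilizer_conj (α := Ω) hF α hT hU
    obtain ⟨d, hd⟩ := exists_coord_eq hF (fun U hU => g U hU * t * (g U hU)⁻¹)
      (fun U hU => by
        have := conj_mem_conjSub (g := g U hU) ht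
        rwa [hgT U hU] at this)
    have hdH : ∀ h : G, h • α = α → h * (d : G) * h⁻¹ = d := by
      intro h hh
      refine congrArg Subtype.val (hF.coord_ext (m := (⟨_, hN.conj_mem _ d.2 h⟩ : N)) (n := d)
        fun U hU => ?_)
      have hU' := hF.conj_mem U hU h⁻¹
      have he : conjSub h (conjSub h⁻¹ U) = U := by rw [conjSub_mul, mul_inv_cancel, conjSub_one]
      have hc := hF.coord_conj hU' h d
      rw [hF.coord_congr (hF.conj_mem _ hU' h) hU he] at hc
      rw [hc, hd _ hU', hd U hU]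
      set V := conjSub h⁻¹ U
      have hk : ((g U hU)⁻¹ * h * g V hU') • α = α := by
        rw [mul_smul, mul_smul, hg V hU', hh, inv_smul_eq_iff, hg U hU]
      have hkT : conjSub ((g U hU)⁻¹ * h * g V hU') T = T := by
        rw [← conjSub_mul, ← conjSub_mul, hgT V hU', he]
        have := congrArg (conjSub (g U hU)⁻¹) (hgT U hU)
        rw [conjSub_mul, inv_mul_cancel, conjSub_one] at this
        exact this.symm
      have h2 := hcent T hT _ hk hkT t ht
      calc h * (g V hU' * t * (g V hU')⁻¹) * h⁻¹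
          = g U hU * (((g U hU)⁻¹ * h * g V hU') * t * ((g U hU)⁻¹ * h * g V hU')⁻¹) * (g U hU)⁻¹ := by group
        _ = g U hU * t * (g U hU)⁻¹ := by rw [h2]
    have hd1 : (d : G) ≠ 1 := by
      intro h
      have h1 := hd T hT
      rw [show d = 1 from Subtype.ext h, map_one, eq_comm, conj_eq_one_iff] at h1
      exact ht1 (Subtype.ext h1)
    let D : Subgroup G := N ⊓ centralizer (stabilizer G α : Set G)
    have hdD : (d : G) ∈ D := ⟨d.2, mem_centralizer_iff.mpr fun h hh => by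
      have := hdH h hh
      exact mul_inv_eq_iff_eq_mul.mp this⟩
    have hnormD : stabilizer G α ≤ normalizer (D : Set G) := by
      intro h hh
      rw [mem_normalizer_iff]
      intro x
      constructor
      · intro hx
        rw [mem_centralizer_iff.mp hx.2 h hh, mul_inv_cancel_right]
        exact hx
      · intro hx
        have h3 := mem_centralizer_iff.mp hx.2 h⁻¹ ((stabilizer G α).inv_mem hh)
        have h4 : x * h⁻¹ = h⁻¹ * (h * x * h⁻¹) := by group
        rw [h3] at h4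
        rw [mul_right_cancel h4]
        exact hx
    haveI : Nontrivial Ω := ⟨⟨(d : G) • α, α, fun h => hd1 (congrArg Subtype.val (hreg d h))⟩⟩
    have htop : stabilizer G α ⊔ D = ⊤ :=
      (IsPreprimitive.isCoatom_stabilizer_of_isPreprimitive G α).2 _
        (lt_of_le_of_ne le_sup_left fun h => hd1 (congrArg Subtype.val
          (hreg d (h.ge (mem_sup_right hdD)))))
    have hND : N ≤ D := by
      intro n hn
      have hn' : n ∈ ((stabilizer G α ⊔ D : Subgroup G) : Set G) := htop ▸ Subgroup.mem_top n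
      rw [coe_mul_of_left_le_normalizer_right _ _ hnormD] at hn'
      obtain ⟨s, hs, x, hx, hsx⟩ := hn'
      have hsN : s ∈ N := by
        have : s = n * x⁻¹ := by rw [← hsx]; simp
        rw [this]; exact N.mul_mem hn (N.inv_mem hx.1)
      have hs1 : s = 1 := congrArg Subtype.val (hreg ⟨s, hsN⟩ hs)
      rw [← hsx, hs1]
      simpa using hx
    have hH : stabilizer G α = ⊥ := by
      refine (Subgroup.eq_bot_iff_forall _).mpr fun h hh =>
        Perm.eq_one_of_forall_smul_eq (α := Ω) fun a => ?_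
      obtain ⟨n, hn, rfl⟩ := Perm.isPretransitive_subgroup_iff.1 htr α a
      rw [← mul_smul, mem_centralizer_iff.mp (hND hn).2 h hh, mul_smul, mem_stabilizer_iff.mp hh]
    have hcoatom := IsPreprimitive.isCoatom_stabilizer_of_isPreprimitive G α
    rw [hH] at hcoatom
    have hTtop : T = ⊤ := hcoatom.2 _ (bot_lt_iff_ne_bot.mpr (hF.ne_bot hT))
    refine hF.ne_bot hS ((Subgroup.eq_bot_iff_forall _).mpr fun s hs => ?_)
    have : s ∈ S ⊓ centralizer (S : Set G) :=
      ⟨hs, mem_centralizer_iff.mpr fun s' hs' => hF.comm S hS T hT hST s' hs' s (hTtop ▸ mem_top s)⟩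
    rwa [hF.inf_centralizer hS, Subgroup.mem_bot] at this
  -- diagonal case: linked factors form pairs
  have hsupp : ∀ (n : N) U (hU : U ∈ 𝒯), (n : G) • α = α →
      (∀ W (hW : W ∈ 𝒯), W ≠ U → hF.coord hW n = 1) → n = 1 := by
    intro n U hU hn hoff
    have he : (n : G) = hF.coord hU n := by
      have : n = ⟨hF.coord hU n, hF.le U hU (hF.coord_mem hU n)⟩ := hF.coord_ext fun W hW => by
        by_cases hWU : W = U
        · subst hWU; exact (hF.coord_self hW (n := ⟨_, _⟩) (hF.coord_mem hW n)).symm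
        · rw [hoff W hW hWU, hF.coord_of_ne hW hU hWU (n := ⟨_, _⟩) (hF.coord_mem hU n)]
      exact congrArg Subtype.val this
    refine Subtype.ext (hsr U hU _ (he ▸ hF.coord_mem hU n) 1 U.one_mem α ?_)
    rw [hn, one_smul]
  -- the elements supported on a linked pair cover each of the two factors
  have hcover : ∀ U (hU : U ∈ 𝒯), ∀ V ∈ 𝒯, Linked hF α U V → ∀ u ∈ U, ∃ n : N, (n : G) • α = α ∧
      (∀ W (hW : W ∈ 𝒯), W ≠ U → W ≠ V → hF.coord hW n = 1) ∧ hF.coord hU n = u := by
    intro U hU V hV hUV u hu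
    let D : Subgroup N :=
      { carrier := {n | (n : G) • α = α ∧ ∀ W (hW : W ∈ 𝒯), W ≠ U → W ≠ V → hF.coord hW n = 1}
        one_mem' := ⟨one_smul G α, fun W hW _ _ => map_one _⟩
        mul_mem' := fun {x y} hx hy => ⟨by
          show ((x : G) * y) • α = α
          rw [mul_smul, hy.1, hx.1], fun W hW h1 h2 => by
          rw [map_mul, hx.2 W hW h1 h2, hy.2 W hW h1 h2, one_mul]⟩
        inv_mem' := fun {x} hx => ⟨by
          show (x : G)⁻¹ • α = α
          rw [inv_smul_eq_iff, hx.1], fun W hW h1 h2 => by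
          rw [map_inv, hx.2 W hW h1 h2, inv_one]⟩ }
    let I : Subgroup G := D.map (hF.coord hU)
    have hIU : I ≤ U := by rintro _ ⟨n, -, rfl⟩; exact hF.coord_mem hU n
    have hIn : U ≤ normalizer (I : Set G) := by
      intro c hc
      rw [← hfull U hU] at hc
      obtain ⟨n, hn, rfl⟩ := hc
      have key : ∀ n : N, (n : G) • α = α → ∀ x ∈ I, hF.coord hU n * x * (hF.coord hU n)⁻¹ ∈ I := by
        rintro n hn _ ⟨m, hm, rfl⟩
        refine ⟨n * m * n⁻¹, ⟨?_, fun W hW h1 h2 => ?_⟩, by rw [map_mul, map_mul, map_inv]⟩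
        · show ((n : G) * m * (n : G)⁻¹) • α = α
          rw [mul_smul, mul_smul, inv_smul_eq_iff.mpr hn.symm, hm.1, hn]
        · rw [map_mul, map_mul, map_inv, hm.2 W hW h1 h2, mul_one, mul_inv_cancel]
      rw [mem_normalizer_iff]
      intro x
      refine ⟨fun hx => key n hn x hx, fun hx => ?_⟩
      have := key n⁻¹ (by rw [Subgroup.coe_inv, inv_smul_eq_iff]; exact hn.symm) _ hx
      rw [map_inv] at this
      simpa [mul_assoc] using this
    rcases hF.eq_bot_or_eq hU hIU hIn with h | h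
    · exfalso
      obtain ⟨hne', -, -, n, hn1, hna, hoff⟩ := hUV
      refine hn1 (hsupp n V hV hna fun W hW hWV => ?_)
      by_cases hWU : W = U
      · subst hWU
        have : hF.coord hW n ∈ I := ⟨n, ⟨hna, hoff⟩, rfl⟩
        rwa [h, Subgroup.mem_bot] at this
      · exact hoff W hW hWU hWV
    · obtain ⟨n, hn, hnu⟩ := h.ge hu
      exact ⟨n, hn.1, hn.2, hnu⟩
  have hone : ∀ U ∈ 𝒯, ∀ V ∈ 𝒯, ∀ W ∈ 𝒯, Linked hF α U V → Linked hF α U W → V = W := by
    intro U hU V hV W hW hUV hUW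
    by_contra hVW
    apply hF.nonabelian U hU
    refine ⟨⟨fun a b => Subtype.ext ?_⟩⟩
    obtain ⟨x, hxa, hxo, hxu⟩ := hcover U hU V hV hUV a a.2
    obtain ⟨y, hya, hyo, hyu⟩ := hcover U hU W hW hUW b b.2
    have h1 : x * y * x⁻¹ * y⁻¹ = 1 := by
      refine hsupp _ U hU ?_ fun Z hZ hZU => ?_
      · show ((x : G) * y * (x : G)⁻¹ * (y : G)⁻¹) • α = α
        rw [mul_smul, mul_smul, mul_smul, inv_smul_eq_iff.mpr hya.symm,
          inv_smul_eq_iff.mpr hxa.symm, hya, hxa]
      · rw [map_mul, map_mul, map_mul, map_inv, map_inv]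
        by_cases hZV : Z = V
        · rw [hyo Z hZ hZU (hZV ▸ hVW)]; group
        · rw [hxo Z hZ hZU hZV]; group
    have h2 := congrArg (hF.coord hU) h1
    rw [map_mul, map_mul, map_mul, map_inv, map_inv, map_one, hxu, hyu, mul_inv_eq_one,
      mul_inv_eq_iff_eq_mul] at h2
    exact h2
  have hLsymm : ∀ U V, Linked hF α U V → Linked hF α V U := by
    rintro U V ⟨h1, hU, hV, n, hn, hna, hoff⟩
    exact ⟨Ne.symm h1, hV, hU, n, hn, hna, fun W hW a b => hoff W hW b a⟩
  have hLconj : ∀ h : G, h • α = α → ∀ U V, Linked hF α U V →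
      Linked hF α (conjSub h U) (conjSub h V) := by
    rintro h hh U V ⟨h1, hU, hV, n, hn, hna, hoff⟩
    refine ⟨fun e => h1 ?_, hF.conj_mem U hU h, hF.conj_mem V hV h,
      ⟨h * n * h⁻¹, hN.conj_mem n n.2 h⟩, fun e => hn ?_, ?_, fun W hW a b => ?_⟩
    · have := congrArg (conjSub h⁻¹) e
      rwa [conjSub_mul, conjSub_mul, inv_mul_cancel, conjSub_one, conjSub_one] at this
    · exact Subtype.ext (conj_eq_one_iff.mp (congrArg Subtype.val e))
    · show (h * (n : G) * h⁻¹) • α = α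
      rw [mul_smul, mul_smul, inv_smul_eq_iff.mpr hh.symm, hna, hh]
    · have hW' := hF.conj_mem W hW h⁻¹
      have he : conjSub h (conjSub h⁻¹ W) = W := by rw [conjSub_mul, mul_inv_cancel, conjSub_one]
      have hc := hF.coord_conj hW' h n
      rw [hF.coord_congr (hF.conj_mem _ hW' h) hW he] at hc
      rw [hc, hoff _ hW' (fun e => a (by rw [← he, e])) (fun e => b (by rw [← he, e]))]
      group
  have huniq : ∀ U ∈ 𝒯, ∀ V ∈ 𝒯, ∀ u ∈ U, ∀ v ∈ V, u • α = v • α → u • α ≠ α →
      U = V ∨ Linked hF α U V := by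
    intro U hU V hV u hu v hv he hne'
    by_cases hUV : U = V
    · exact Or.inl hUV
    refine Or.inr ⟨hUV, hU, hV, (⟨u, hF.le U hU hu⟩ : N)⁻¹ * ⟨v, hF.le V hV hv⟩, fun h => ?_, ?_,
      fun W hW h1 h2 => ?_⟩
    · have h' := congrArg (hF.coord hU) h
      rw [map_mul, map_inv, hF.coord_self hU (n := ⟨u, hF.le U hU hu⟩) hu,
        hF.coord_of_ne hU hV hUV (n := ⟨v, hF.le V hV hv⟩) hv, mul_one, map_one, inv_eq_one] at h'
      have h'' : u = 1 := h'
      exact hne' (by rw [h'', one_smul])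
    · show (u⁻¹ * v) • α = α
      rw [mul_smul, ← he, inv_smul_smul]
    · rw [map_mul, map_inv, hF.coord_of_ne hW hU h1 (n := ⟨u, hF.le U hU hu⟩) hu,
        hF.coord_of_ne hW hV h2 (n := ⟨v, hF.le V hV hv⟩) hv, inv_one, one_mul]
  have hrel : ∀ U ∈ 𝒯, ∀ V ∈ 𝒯, U = V ∨ Linked hF α U V := by
    intro U hU V hV
    by_contra hbig
    apply hF.ne_bot hU
    rw [← hfull U hU, Subgroup.eq_bot_iff_forall]
    rintro _ ⟨n, hn, rfl⟩
    have hn' : (n : G) • α = α := hn
    have hc : hF.coord hU n ∈ U ⊓ centralizer (U : Set G) := by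
      refine ⟨hF.coord_mem hU n, mem_centralizer_iff.mpr fun t ht => ?_⟩
      rcases eq_or_ne t 1 with rfl | ht1
      · simp
      have hnorm := hF.conjSub_eq_of_mem hU n.2
      have h := fixes_of_classes hep hF (Linked hF α) hLconj hLsymm huniq hone hU hV hbig ht
        (hA U hU t ht ht1 α) hn' hnorm
      rw [← Perm.conj_smul_eq hn'] at h
      have h2 : (n : G) * t * (n : G)⁻¹ = t :=
        hsr U hU _ (hnorm ▸ conj_mem_conjSub ht) t ht α h
      have h3 := mem_centralizer_iff.mp (hF.coord_spec hU n) t ht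
      generalize hF.coord hU n = c at h3
      have : c * t = t * c := by
        calc c * t = (n : G) * ((c⁻¹ * n)⁻¹ * t * (c⁻¹ * n)) * (n : G)⁻¹ * c := by group
          _ = (n : G) * ((c⁻¹ * n)⁻¹ * (t * (c⁻¹ * n))) * (n : G)⁻¹ * c := by group
          _ = (n : G) * ((c⁻¹ * n)⁻¹ * (c⁻¹ * n * t)) * (n : G)⁻¹ * c := by rw [h3]
          _ = ((n : G) * t * (n : G)⁻¹) * c := by group
          _ = t * c := by rw [h2]
      exact this.symm
    rwa [hF.inf_centralizer hU, Subgroup.mem_bot] at hc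
  -- exactly two factors
  have hTS : Linked hF α T S := (hrel T hT S hS).resolve_left (Ne.symm hST)
  have htwo : ∀ W ∈ 𝒯, W = T ∨ W = S := by
    intro W hW
    rcases hrel T hT W hW with h | h
    · exact Or.inl h.symm
    · exact Or.inr (hone T hT W hW S hS h hTS)
  have hdecomp : ∀ n : N, (n : G) = hF.coord hT n * hF.coord hS n := by
    intro n
    have hTN := hF.le T hT (hF.coord_mem hT n)
    have hSN := hF.le S hS (hF.coord_mem hS n)
    have : n = ⟨_, hTN⟩ * ⟨_, hSN⟩ := hF.coord_ext fun W hW => by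
      rw [map_mul]
      rcases htwo W hW with rfl | rfl
      · rw [hF.coord_self hW (n := ⟨_, hTN⟩) (hF.coord_mem hT n),
          hF.coord_of_ne hW hS hST.symm (n := ⟨_, hSN⟩) (hF.coord_mem hS n), mul_one]
      · rw [hF.coord_of_ne hW hT hST (n := ⟨_, hTN⟩) (hF.coord_mem hT n),
          hF.coord_self hW (n := ⟨_, hSN⟩) (hF.coord_mem hS n), one_mul]
    exact congrArg Subtype.val this
  have hTtr : IsPretransitive T Ω := by
    refine Perm.isPretransitive_subgroup_iff.2 ?_
    suffices H : ∀ b, ∃ t ∈ T, t • α = b by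
      intro a b
      obtain ⟨u, hu, rfl⟩ := H a
      obtain ⟨v, hv, rfl⟩ := H b
      exact ⟨v * u⁻¹, T.mul_mem hv (T.inv_mem hu), by rw [mul_smul, inv_smul_smul]⟩
    intro b
    obtain ⟨n, hn, rfl⟩ := Perm.isPretransitive_subgroup_iff.1 htr α b
    have hv := hF.coord_mem hS ⟨n, hn⟩
    obtain ⟨d, hd, hdv⟩ := (hfull S hS).ge hv
    refine ⟨hF.coord hT ⟨n, hn⟩ * (hF.coord hT d)⁻¹,
      T.mul_mem (hF.coord_mem hT _) (T.inv_mem (hF.coord_mem hT d)), ?_⟩
    have e1 := hdecomp ⟨n, hn⟩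
    have e2 := hdecomp d
    rw [← hdv] at e1
    have e3 : n = hF.coord hT ⟨n, hn⟩ * (hF.coord hT d)⁻¹ * (d : G) := by
      rw [e2, mul_assoc, inv_mul_cancel_left]; exact e1
    conv_rhs => rw [e3, mul_smul, show (d : G) • α = α from hd]
  refine regular_simple_false hep (α := α) T (hF.simple T hT) (hF.nonabelian T hT) hTtr
    (fun a => Perm.stabilizer_subgroup_eq_bot_iff.2 fun g hg hga =>
      hsr T hT g hg 1 T.one_mem a (by rw [hga, one_smul])) ?_ ?_
  · intro s hs'
    obtain ⟨d, hd, hds⟩ := (hfull T hT).ge hs'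
    have hd' : (d : G) • α = α := hd
    refine ⟨(d : G), hd', fun t ht => ?_⟩
    rw [← Perm.conj_smul_eq hd', hdecomp d, hds]
    congr 1
    have hc := hF.comm T hT S hS hST.symm t ht _ (hF.coord_mem hS d)
    calc s * hF.coord hS d * t * (s * hF.coord hS d)⁻¹
        = s * (hF.coord hS d * t) * (hF.coord hS d)⁻¹ * s⁻¹ := by group
      _ = s * (t * hF.coord hS d) * (hF.coord hS d)⁻¹ * s⁻¹ := by rw [hc]
      _ = s * t * s⁻¹ := by group
  · intro h hh a ha b hb hab a' ha' b' hb' hae hbe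
    rw [← Perm.conj_smul_eq hh] at hae hbe ⊢
    rcases htwo _ (hF.conj_mem T hT h) with hc | hc
    · have e1 := hsr T hT a' ha' _ (hc ▸ conj_mem_conjSub ha) α hae
      have e2 := hsr T hT b' hb' _ (hc ▸ conj_mem_conjSub hb) α hbe
      rw [e1, e2]
      congr 1
      group
    · set w := h * a * h⁻¹ with hw
      set z := h * b * h⁻¹ with hz
      have hwS : w ∈ S := hc ▸ conj_mem_conjSub ha
      have hzS : z ∈ S := hc ▸ conj_mem_conjSub hb
      have hwz : w * z = z * w := by
        rw [hw, hz]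
        calc h * a * h⁻¹ * (h * b * h⁻¹) = h * (a * b) * h⁻¹ := by group
          _ = h * (b * a) * h⁻¹ := by rw [hab]
          _ = _ := by group
      have c1 : a'⁻¹ * w = w * a'⁻¹ := hF.comm T hT S hS hST.symm _ (T.inv_mem ha') w hwS
      have c2 : b'⁻¹ * z = z * b'⁻¹ := hF.comm T hT S hS hST.symm _ (T.inv_mem hb') z hzS
      have c3 : a'⁻¹ * z = z * a'⁻¹ := hF.comm T hT S hS hST.symm _ (T.inv_mem ha') z hzS
      have c4 : b'⁻¹ * w = w * b'⁻¹ := hF.comm T hT S hS hST.symm _ (T.inv_mem hb') w hwS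
      have da : (a'⁻¹ * w) • α = α := by rw [mul_smul, inv_smul_eq_iff]; exact hae.symm
      have db : (b'⁻¹ * z) • α = α := by rw [mul_smul, inv_smul_eq_iff]; exact hbe.symm
      have e1 : (a'⁻¹ * w) * (b'⁻¹ * z) = (a'⁻¹ * b'⁻¹) * (w * z) := by
        calc (a'⁻¹ * w) * (b'⁻¹ * z) = a'⁻¹ * (w * b'⁻¹) * z := by group
          _ = a'⁻¹ * (b'⁻¹ * w) * z := by rw [c4]
          _ = _ := by group
      have e2 : (b'⁻¹ * z) * (a'⁻¹ * w) = (b'⁻¹ * a'⁻¹) * (w * z) := by
        calc (b'⁻¹ * z) * (a'⁻¹ * w) = b'⁻¹ * (z * a'⁻¹) * w := by group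
          _ = b'⁻¹ * (a'⁻¹ * z) * w := by rw [c3]
          _ = b'⁻¹ * a'⁻¹ * (z * w) := by group
          _ = _ := by rw [hwz]
      have f1 : ((a'⁻¹ * b'⁻¹) * (w * z)) • α = α := by rw [← e1, mul_smul, db, da]
      have f2 : ((b'⁻¹ * a'⁻¹) * (w * z)) • α = α := by rw [← e2, mul_smul, da, db]
      have hcm : a'⁻¹ * b'⁻¹ = b'⁻¹ * a'⁻¹ := by
        refine hsr T hT _ (T.mul_mem (T.inv_mem ha') (T.inv_mem hb')) _
          (T.mul_mem (T.inv_mem hb') (T.inv_mem ha')) ((w * z) • α) ?_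
        rw [← mul_smul, ← mul_smul, f1, f2]
      have f3 : ((a' * b')⁻¹ * (w * z)) • α = α := by rw [mul_inv_rev, ← hcm]; exact f1
      rw [mul_smul, inv_smul_eq_iff] at f3
      rw [← f3]
      congr 1
      rw [hw, hz]
      group

end Cfsg.Agent.ExtremelyPrimitive
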