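import Cfsg.Agent.Lib.Perm.Basic

/-!
Extremely primitive groups: a point stabiliser acts faithfully on each non-trivial orbit
(Mann–Praeger–Seress, Lemma 2.1).
-/

namespace Cfsg.Agent.ExtremelyPrimitive

open MulAction

variable {G Ω : Type*} [Group G] [MulAction G Ω]

/-- The orbital graph of `(a, b)`. -/
def Arc (a b x y : Ω) : Prop := ∃ g : G, g • a = x ∧ g • b = y

/-- The point stabiliser is primitive on each of its orbits. -/
def IsEP (G Ω : Type*) [Group G] [MulAction G Ω] : Prop :=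
  ∀ (α ω : Ω), IsPreprimitive (stabilizer G α) (orbit (stabilizer G α) ω)

theorem arc_smul {a b x y : Ω} (h : Arc (G := G) a b x y) (g : G) :
    Arc (G := G) a b (g • x) (g • y) := by
  obtain ⟨k, rfl, rfl⟩ := h
  exact ⟨g * k, mul_smul g k a, mul_smul g k b⟩

/-- A normal subgroup of the stabiliser moving a point is transitive on its orbit. -/
theorem transitive_of_normal (hep : IsEP G Ω) {x : Ω} (K : Subgroup (stabilizer G x)) [K.Normal]
    {c : Ω} {k : stabilizer G x} (hk : k ∈ K) (hkc : (k : G) • c ≠ c)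
    (h : stabilizer G x) : ∃ k' ∈ K, (k' : G) • c = (h : G) • c := by
  haveI := hep x c
  have hfix : fixedPoints K (orbit (stabilizer G x) c) ≠ Set.univ := by
    intro hu
    have h1 : (⟨c, mem_orbit_self c⟩ : orbit (stabilizer G x) c) ∈
        fixedPoints K (orbit (stabilizer G x) c) := hu ▸ Set.mem_univ _
    exact hkc (congrArg Subtype.val (h1 ⟨k, hk⟩))
  have ht := IsQuasiPreprimitive.isPretransitive_of_normal hfix
  obtain ⟨⟨k', hk'⟩, he⟩ := ht.exists_smul_eq (⟨c, mem_orbit_self c⟩ : orbit (stabilizer G x) c)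
    ⟨h • c, mem_orbit c h⟩
  exact ⟨k', hk', congrArg Subtype.val he⟩

variable [Finite Ω] [IsPreprimitive G Ω]

theorem card_in_eq_card_out (a b x y : Ω) :
    Nat.card {z // Arc (G := G) a b z x} = Nat.card {z // Arc (G := G) a b y z} := by
  classical
  haveI := Fintype.ofFinite Ω
  have hin : ∀ u v : Ω, Nat.card {z // Arc (G := G) a b z u} = Nat.card {z // Arc (G := G) a b z v} := by
    intro u v
    obtain ⟨g, rfl⟩ := exists_smul_eq G u v
    refine Nat.card_congr (Equiv.subtypeEquiv (toPerm g) fun z => ⟨fun h => arc_smul h g, fun h => ?_⟩)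
    simpa using arc_smul h g⁻¹
  have hout : ∀ u v : Ω, Nat.card {z // Arc (G := G) a b u z} = Nat.card {z // Arc (G := G) a b v z} := by
    intro u v
    obtain ⟨g, rfl⟩ := exists_smul_eq G u v
    refine Nat.card_congr (Equiv.subtypeEquiv (toPerm g) fun z => ⟨fun h => arc_smul h g, fun h => ?_⟩)
    simpa using arc_smul h g⁻¹
  have hp : Nat.card (Σ u : Ω, {z // Arc (G := G) a b z u}) =
      Nat.card (Σ u : Ω, {z // Arc (G := G) a b u z}) :=
    Nat.card_congr
      { toFun := fun p => ⟨p.2.1, p.1, p.2.2⟩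
        invFun := fun p => ⟨p.2.1, p.1, p.2.2⟩
        left_inv := fun p => rfl
        right_inv := fun p => rfl }
  rw [Nat.card_sigma, Nat.card_sigma, Finset.sum_congr rfl fun u _ => hin u x,
    Finset.sum_congr rfl fun u _ => hout u y, Finset.sum_const, Finset.sum_const, smul_eq_mul,
    smul_eq_mul] at hp
  exact Nat.eq_of_mul_eq_mul_left (Finset.card_pos.mpr ⟨x, Finset.mem_univ x⟩) hp

/-- The key step: what fixes `x` and its out-neighbours fixes their out-neighbours. -/
theorem fixes_out_out (hep : IsEP G Ω) {a b : Ω} (hab : b ≠ a) {x : Ω} {k : G} (hkx : k • x = x)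
    (hk : ∀ y, Arc (G := G) a b x y → k • y = y) {y : Ω} (hy : Arc (G := G) a b x y) {c : Ω}
    (hc : Arc (G := G) a b y c) : k • c = c := by
  classical
  haveI := Fintype.ofFinite Ω
  by_contra hkc
  let K : Subgroup (stabilizer G x) :=
    { carrier := {g | ∀ z, Arc (G := G) a b x z → (g : G) • z = z}
      one_mem' := fun z _ => one_smul G z
      mul_mem' := fun {g g'} hg hg' z hz => by
        show ((g : G) * g') • z = z
        rw [mul_smul, hg' z hz, hg z hz]
      inv_mem' := fun {g} hg z hz => by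
        show (g : G)⁻¹ • z = z
        rw [inv_smul_eq_iff, hg z hz] }
  haveI : K.Normal := ⟨fun g hg h z hz => by
    show ((h : G) * g * (h : G)⁻¹) • z = z
    have hz' : Arc (G := G) a b x ((h : G)⁻¹ • z) := by
      have := arc_smul hz (h : G)⁻¹
      rwa [inv_smul_eq_iff.mpr (mem_stabilizer_iff.mp h.2).symm] at this
    rw [mul_smul, mul_smul, hg _ hz', smul_inv_smul]⟩
  have hkK : (⟨k, hkx⟩ : stabilizer G x) ∈ K := hk
  -- all out-neighbours of `x` are in-neighbours of `c`
  have hsub : ∀ y', Arc (G := G) a b x y' → Arc (G := G) a b y' c := by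
    intro y' hy'
    obtain ⟨g, hgx, hgy⟩ := hy
    obtain ⟨g', hgx', hgy'⟩ := hy'
    have hh : (g' * g⁻¹) • x = x := by rw [mul_smul, inv_smul_eq_iff.mpr hgx.symm, hgx']
    obtain ⟨k', hk'K, hk'⟩ := transitive_of_normal hep K hkK hkc ⟨g' * g⁻¹, hh⟩
    have h1 := arc_smul hc ((k' : G)⁻¹ * (g' * g⁻¹))
    have e1 : ((k' : G)⁻¹ * (g' * g⁻¹)) • y = y' := by
      rw [mul_smul, mul_smul, inv_smul_eq_iff.mpr hgy.symm, hgy', inv_smul_eq_iff]
      exact (hk'K y' ⟨g', hgx', hgy'⟩).symm
    have e2 : ((k' : G)⁻¹ * (g' * g⁻¹)) • c = c := by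
      rw [mul_smul, inv_smul_eq_iff]; exact hk'.symm
    rwa [e1, e2] at h1
  have heq : ∀ z, Arc (G := G) a b z c → Arc (G := G) a b x z := by
    have hinj : Function.Injective (fun z : {z // Arc (G := G) a b x z} =>
        (⟨z.1, hsub z.1 z.2⟩ : {z // Arc (G := G) a b z c})) :=
      fun u v h => Subtype.ext (congrArg Subtype.val h :)
    have hs := ((Nat.bijective_iff_injective_and_card _).mpr
      ⟨hinj, (card_in_eq_card_out a b c x).symm⟩).2
    intro z hz
    obtain ⟨w, hw⟩ := hs ⟨z, hz⟩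
    rw [← show w.1 = z from congrArg Subtype.val hw]
    exact w.2
  let r : Ω → Ω → Prop := fun u v => ∀ z, Arc (G := G) a b z u ↔ Arc (G := G) a b z v
  have hr : Equivalence r :=
    ⟨fun _ _ => Iff.rfl, fun h z => (h z).symm, fun h h' z => (h z).trans (h' z)⟩
  have hinv : ∀ (g : G) u v, r u v → r (g • u) (g • v) := by
    intro g u v h z
    constructor <;> intro hz <;> have h1 := arc_smul hz g⁻¹ <;> rw [inv_smul_smul] at h1
    · simpa using arc_smul ((h _).mp h1) g
    · simpa using arc_smul ((h _).mpr h1) g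
  have hcc : r c (k • c) := by
    intro z
    constructor
    · intro hz
      have := arc_smul hz k
      rwa [hk z (heq z hz)] at this
    · intro hz
      have h1 := arc_smul hz k⁻¹
      rw [inv_smul_smul] at h1
      have h2 := hk _ (heq _ h1)
      rw [smul_inv_smul] at h2
      rwa [← h2] at h1
  have hall := Perm.equivalence_trivial hr hinv hcc (Ne.symm hkc)
  obtain ⟨g, hg1, hg2⟩ := (hall y y).mp (hsub y hy)
  exact hab (smul_left_cancel g (hg2.trans hg1.symm))

/-- In an extremely primitive group the point stabiliser is faithful on each non-trivial orbit. -/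
theorem eq_one_of_fixes_orbit [FaithfulSMul G Ω] (hep : IsEP G Ω) {α ω : Ω} (hω : ω ≠ α) {h : G}
    (hα : h • α = α) (hfix : ∀ x ∈ orbit (stabilizer G α) ω, h • x = x) : h = 1 := by
  classical
  haveI := Fintype.ofFinite Ω
  let S : Set Ω := {x | h • x = x ∧ ∀ y, Arc (G := G) α ω x y → h • y = y}
  have hαS : α ∈ S := ⟨hα, fun y ⟨g, hg, hgy⟩ => hfix y (hgy ▸ mem_orbit ω (⟨g, hg⟩ : stabilizer G α))⟩
  have hS : ∀ x y, Arc (G := G) α ω x y → x ∈ S → y ∈ S := fun x y hxy hx =>
    ⟨hx.2 y hxy, fun c hc => fixes_out_out hep hω hx.1 hx.2 hxy hc⟩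
  let r : Ω → Ω → Prop := fun u v => ∀ T : Set Ω,
    (∀ x y, Arc (G := G) α ω x y → x ∈ T → y ∈ T) → (u ∈ T ↔ v ∈ T)
  have hr : Equivalence r :=
    ⟨fun _ _ _ => Iff.rfl, fun h T hT => (h T hT).symm, fun h h' T hT => (h T hT).trans (h' T hT)⟩
  have hinv : ∀ (g : G) u v, r u v → r (g • u) (g • v) := fun g u v huv T hT =>
    huv {x | g • x ∈ T} fun x y hxy hx => hT _ _ (arc_smul hxy g) hx
  have hedge : r α ω := by
    intro T hT
    refine ⟨hT α ω ⟨1, one_smul G α, one_smul G ω⟩, fun hωT => ?_⟩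
    -- a set closed under successors is closed under predecessors
    let F : (Σ x : T, {z // Arc (G := G) α ω x.1 z}) → (Σ x : T, {z // Arc (G := G) α ω z x.1}) :=
      fun p => ⟨⟨p.2.1, hT _ _ p.2.2 p.1.2⟩, p.1.1, p.2.2⟩
    have hF : Function.Injective F := by
      rintro ⟨⟨x, hx⟩, z, hz⟩ ⟨⟨x', hx'⟩, z', hz'⟩ e
      have e1 : z = z' := congrArg (fun p => p.1.1) e
      have e2 : x = x' := congrArg (fun p => (p.2.1 : Ω)) e
      subst e1; subst e2; rfl
    have hcard : Nat.card (Σ x : T, {z // Arc (G := G) α ω x.1 z}) =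
        Nat.card (Σ x : T, {z // Arc (G := G) α ω z x.1}) := by
      haveI := Fintype.ofFinite T
      rw [Nat.card_sigma, Nat.card_sigma]
      exact Finset.sum_congr rfl fun x _ => (card_in_eq_card_out α ω x.1 x.1).symm
    obtain ⟨⟨⟨x, hx⟩, z, hz⟩, he⟩ := ((Nat.bijective_iff_injective_and_card F).mpr ⟨hF, hcard⟩).2
      ⟨⟨ω, hωT⟩, α, 1, one_smul G α, one_smul G ω⟩
    have : x = α := congrArg (fun p => (p.2.1 : Ω)) he
    exact this ▸ hx
  refine Perm.eq_one_of_forall_smul_eq (α := Ω) fun b => ?_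
  exact ((Perm.equivalence_trivial hr hinv hedge hω.symm b S hS).mp hαS).1

/-- A non-trivial normal subgroup of the stabiliser is transitive on each of its orbits. -/
theorem orbit_eq_of_normal [FaithfulSMul G Ω] (hep : IsEP G Ω) {α : Ω} {M : Subgroup G} (hM : M ≠ ⊥)
    (hle : M ≤ stabilizer G α) (hn : stabilizer G α ≤ Subgroup.normalizer (M : Set G)) (ω : Ω) :
    orbit M ω = orbit (stabilizer G α) ω := by
  have hsub : orbit M ω ⊆ orbit (stabilizer G α) ω := by
    rintro _ ⟨m, rfl⟩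
    exact ⟨⟨m, hle m.2⟩, rfl⟩
  refine Set.Subset.antisymm hsub ?_
  rintro _ ⟨h, rfl⟩
  rcases eq_or_ne ω α with rfl | hω
  · exact ⟨1, (one_smul M ω).trans (mem_stabilizer_iff.mp h.2).symm⟩
  haveI := Subgroup.normal_subgroupOf_of_le_normalizer hn
  obtain ⟨⟨m, hm⟩, hm1⟩ := Subgroup.ne_bot_iff_exists_ne_one.mp hM
  obtain ⟨c, hc, hmc⟩ : ∃ c ∈ orbit (stabilizer G α) ω, m • c ≠ c := by
    by_contra hcon
    push Not at hcon
    exact hm1 (Subtype.ext (eq_one_of_fixes_orbit hep hω (hle hm) hcon))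
  obtain ⟨u, rfl⟩ := hc
  have hm' : (u : G)⁻¹ * m * u ∈ M := (Subgroup.mem_normalizer_iff''.mp (hn u.2) m).mp hm
  have hmove : ((u : G)⁻¹ * m * u) • ω ≠ ω := fun e => hmc (by
    rw [mul_smul, mul_smul, inv_smul_eq_iff] at e
    exact e)
  obtain ⟨k, hk, hke⟩ := transitive_of_normal hep (M.subgroupOf (stabilizer G α))
    (k := ⟨_, hle hm'⟩) hm' hmove h
  exact ⟨⟨(k : G), hk⟩, hke⟩

end Cfsg.Agent.ExtremelyPrimitive
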