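import Cfsg.Agent.Lib.ExtremelyPrimitive.Basic
import Cfsg.Agent.Lib.Components.Fitting

/-!
Normal abelian and nilpotent subgroups of the point stabiliser of an extremely primitive group.
-/

namespace Cfsg.Agent.ExtremelyPrimitive

open MulAction Subgroup

variable {G Ω : Type*} [Group G] [Finite G] [MulAction G Ω] [Finite Ω] [FaithfulSMul G Ω]
  [IsPreprimitive G Ω]

omit [Finite G] [Finite Ω] in
theorem exists_ne {α : Ω} (hH : stabilizer G α ≠ ⊥) : ∃ ω : Ω, ω ≠ α := by
  by_contra h
  push Not at h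
  exact hH ((Subgroup.eq_bot_iff_forall _).mpr fun g _ =>
    Perm.eq_one_of_forall_smul_eq (α := Ω) fun a => (h _).trans (h a).symm)

omit [Finite G] in
theorem faithful_orbit (hep : IsEP G Ω) {α ω : Ω} (hω : ω ≠ α) :
    FaithfulSMul (stabilizer G α) (orbit (stabilizer G α) ω) := by
  refine ⟨fun {g k} h => ?_⟩
  have h1 : ((k : G)⁻¹ * g) = 1 := by
    refine eq_one_of_fixes_orbit hep hω ((stabilizer G α).mul_mem ((stabilizer G α).inv_mem k.2) g.2)
      fun x hx => ?_
    have h2 := congrArg Subtype.val (h ⟨x, hx⟩)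
    rw [mul_smul, inv_smul_eq_iff]
    exact h2
  exact Subtype.ext (inv_mul_eq_one.mp h1).symm

omit [Finite G] in
/-- A non-trivial abelian normal subgroup of the stabiliser is regular on each suborbit and
self-centralising. -/
theorem abelian_normal (hep : IsEP G Ω) {α ω : Ω} (hω : ω ≠ α) {A : Subgroup (stabilizer G α)}
    [A.Normal] [IsMulCommutative A] (hA : A ≠ ⊥) :
    IsPretransitive A (orbit (stabilizer G α) ω) ∧
    (∀ a ∈ A, (a : G) • ω = ω → a = 1) ∧
    Subgroup.centralizer (A : Set (stabilizer G α)) = A ∧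
    Nat.card (orbit (stabilizer G α) ω) = Nat.card A := by
  haveI := hep α ω
  haveI := faithful_orbit hep hω
  haveI : Nonempty (orbit (stabilizer G α) ω) := ⟨⟨ω, mem_orbit_self ω⟩⟩
  obtain ⟨ht, hr, hc⟩ := Perm.regular_of_abelian_normal (α := orbit (stabilizer G α) ω) hA
  haveI := ht
  refine ⟨ht, fun a ha h => ?_, hc, (Perm.card_eq_of_regular (hr ⟨ω, mem_orbit_self ω⟩)).symm⟩
  exact Perm.stabilizer_subgroup_eq_bot_iff.1 (hr ⟨ω, mem_orbit_self ω⟩) a ha (Subtype.ext h)

omit [Finite G] [Finite Ω] [FaithfulSMul G Ω] in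
/-- An abelian regular primitive group has prime order. -/
theorem prime_card_of_regular {H β : Type*} [Group H] [Finite H] [MulAction H β] [Nontrivial β]
    [IsPreprimitive H β] (hreg : ∀ b : β, stabilizer H b = ⊥) : (Nat.card H).Prime := by
  obtain ⟨b⟩ := (inferInstance : Nonempty β)
  have hc := IsPreprimitive.isCoatom_stabilizer_of_isPreprimitive H b
  rw [hreg b] at hc
  have hne : Nat.card H ≠ 1 := fun h1 => hc.1 (by
    haveI := (Nat.card_eq_one_iff_unique.mp h1).1
    exact Subsingleton.elim _ _)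
  obtain ⟨p, hp, hpd⟩ := Nat.exists_prime_and_dvd hne
  haveI := Fact.mk hp
  obtain ⟨x, hx⟩ := exists_prime_orderOf_dvd_card' p hpd
  have hz : zpowers x = ⊤ := hc.2 _ (bot_lt_iff_ne_bot.mpr fun h => hp.ne_one (by
    rw [zpowers_eq_bot] at h; rw [← hx, h, orderOf_one]))
  rw [← card_top (G := H), ← hz, Nat.card_zpowers, hx]
  exact hp

variable {α : Ω}

/-- If the stabiliser does not have prime order its centre is trivial. -/
theorem center_eq_bot (hep : IsEP G Ω) (hH : stabilizer G α ≠ ⊥)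
    (hp : ¬ (Nat.card (stabilizer G α)).Prime) : Subgroup.center (stabilizer G α) = ⊥ := by
  by_contra hne
  obtain ⟨ω, hω⟩ := exists_ne hH
  obtain ⟨ht, hr, hc, hcard⟩ := abelian_normal hep hω hne
  apply hp
  have htop : Subgroup.center (stabilizer G α) = ⊤ := by
    rw [eq_top_iff]
    refine le_trans ?_ hc.le
    intro x _
    rw [mem_centralizer_iff]
    intro z hz
    exact (mem_center_iff.mp hz x).symm
  haveI := hep α ω
  haveI : Nontrivial (orbit (stabilizer G α) ω) := by
    rw [← Finite.one_lt_card_iff_nontrivial, hcard]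
    exact one_lt_card_iff_ne_bot _ |>.mpr hne
  refine prime_card_of_regular (β := orbit (stabilizer G α) ω) fun b => ?_
  obtain ⟨_, u, rfl⟩ := b
  rw [Subgroup.eq_bot_iff_forall]
  intro a ha
  have ha' : (a : G) • (u : G) • ω = (u : G) • ω := congrArg Subtype.val ha
  have h1 := hr (u⁻¹ * a * u) (htop ▸ mem_top _) (by
    show ((u : G)⁻¹ * (a : G) * (u : G)) • ω = ω
    rw [mul_smul, mul_smul, inv_smul_eq_iff, ha'])
  rw [mem_center_iff.mp (htop ▸ mem_top a : a ∈ Subgroup.center _) u⁻¹, mul_assoc, inv_mul_cancel,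
    mul_one] at h1
  exact h1

/-- The Fitting subgroup of the stabiliser: elementary abelian, regular on every suborbit,
self-centralising. -/
theorem fitting (hep : IsEP G Ω) (hF : fittingSubgroup (stabilizer G α) ≠ ⊥) :
    IsMulCommutative (fittingSubgroup (stabilizer G α)) ∧
    Subgroup.centralizer (fittingSubgroup (stabilizer G α) : Set (stabilizer G α)) =
      fittingSubgroup (stabilizer G α) ∧
    (∀ ω : Ω, ω ≠ α →
      Nat.card (orbit (stabilizer G α) ω) = Nat.card (fittingSubgroup (stabilizer G α))) ∧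
    (Nat.card (fittingSubgroup (stabilizer G α)) ∣ Nat.card Ω - 1) ∧
    ∃ p e : ℕ, p.Prime ∧ 1 ≤ e ∧ Nat.card (fittingSubgroup (stabilizer G α)) = p ^ e ∧
      ∀ x ∈ fittingSubgroup (stabilizer G α), x ^ p = 1 := by
  set H := stabilizer G α
  set F := fittingSubgroup H with hFdef
  have hH : H ≠ ⊥ := fun h => hF ((Subgroup.eq_bot_iff_forall _).mpr fun x _ =>
    Subtype.ext (Subgroup.mem_bot.mp (h ▸ x.2)))
  obtain ⟨ω₀, hω₀⟩ := exists_ne hH
  haveI : F.Normal := Components.fittingSubgroup_normal H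
  haveI : Group.IsNilpotent F := Components.fittingSubgroup_isNilpotent H
  haveI : Nontrivial F := (nontrivial_iff_ne_bot F).mpr hF
  let Z : Subgroup H := (Subgroup.center F).map F.subtype
  haveI : Z.Normal := ConjAct.normal_of_characteristic_of_normal
  have hZ : Z ≠ ⊥ := fun h => by
    have := (map_eq_bot_iff_of_injective _ F.subtype_injective).mp h
    obtain ⟨n, hn⟩ := Group.IsNilpotent.nilpotent (G := F)
    have hz : ∀ k, Subgroup.upperCentralSeries F k = ⊥ := by
      intro k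
      induction k with
      | zero => exact Subgroup.upperCentralSeries_zero F
      | succ k ih =>
        rw [← this, ← Subgroup.upperCentralSeries_one]
        ext x
        rw [Subgroup.mem_upperCentralSeries_succ_iff, Subgroup.mem_upperCentralSeries_succ_iff,
          ih, Subgroup.upperCentralSeries_zero]
    exact bot_ne_top ((hz n).symm.trans hn)
  haveI : IsMulCommutative Z := ⟨⟨by
    rintro ⟨_, a, ha, rfl⟩ ⟨_, b, _, rfl⟩
    exact Subtype.ext (congrArg F.subtype (mem_center_iff.mp ha b).symm)⟩⟩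
  have hFZ : F ≤ Z := by
    rw [← (abelian_normal hep hω₀ hZ).2.2.1]
    intro x hx
    rw [mem_centralizer_iff]
    rintro _ ⟨a, ha, rfl⟩
    exact congrArg Subtype.val (mem_center_iff.mp ha ⟨x, hx⟩).symm
  haveI hcomm : IsMulCommutative F := ⟨⟨fun a b => by
    obtain ⟨a', ha', hae⟩ := hFZ a.2
    obtain rfl : a' = a := Subtype.ext hae
    exact (mem_center_iff.mp ha' b).symm⟩⟩
  have hall := fun ω hω => abelian_normal hep (ω := ω) hω hF
  refine ⟨hcomm, (hall ω₀ hω₀).2.2.1, fun ω hω => (hall ω hω).2.2.2, ?_, ?_⟩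
  · -- `F` is semiregular away from `α`
    let T : SubMulAction H Ω :=
      { carrier := {x | x ≠ α}
        smul_mem' := fun g x hx h => hx (by
          rw [← inv_smul_smul (g : G) x, show (g : G) • x = α from h,
            inv_smul_eq_iff]
          exact (mem_stabilizer_iff.mp g.2).symm) }
    have h := Perm.card_dvd_of_semiregular (G := H) (α := T) (N := F) fun x =>
      Perm.stabilizer_subgroup_eq_bot_iff.2 fun g hg hgx =>
        (hall x.1 x.2).2.1 g hg (congrArg Subtype.val hgx)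
    classical
    haveI := Fintype.ofFinite Ω
    have hT : Nat.card T = Nat.card Ω - 1 := by
      have h1 : Nat.card {x : Ω // x ≠ α} = Nat.card Ω - 1 := by
        rw [Nat.card_eq_fintype_card, Nat.card_eq_fintype_card, Fintype.card_subtype_compl,
          Fintype.card_subtype_eq]
      exact h1
    rwa [hT] at h
  · obtain ⟨p, hp, hpd⟩ := Nat.exists_prime_and_dvd
      ((Subgroup.one_lt_card_iff_ne_bot F).mpr hF).ne'
    haveI := Fact.mk hp
    obtain ⟨x, hx⟩ := exists_prime_orderOf_dvd_card' p hpd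
    have hc : ∀ a ∈ F, ∀ b ∈ F, Commute a b := fun a ha b hb =>
      congrArg Subtype.val (mul_comm' (⟨a, ha⟩ : F) ⟨b, hb⟩)
    let E : Subgroup H :=
      { carrier := {g | g ∈ F ∧ g ^ p = 1}
        one_mem' := ⟨F.one_mem, one_pow p⟩
        mul_mem' := fun {a b} ha hb => ⟨F.mul_mem ha.1 hb.1, by
          rw [(hc a ha.1 b hb.1).mul_pow, ha.2, hb.2, one_mul]⟩
        inv_mem' := fun {a} ha => ⟨F.inv_mem ha.1, by rw [inv_pow, ha.2, inv_one]⟩ }
    haveI : E.Normal := ⟨fun n hn g => ⟨‹F.Normal›.conj_mem n hn.1 g, by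
      rw [conj_pow, hn.2, mul_one, mul_inv_cancel]⟩⟩
    have hxE : (x : H) ∈ E := ⟨x.2, by rw [← Subgroup.coe_pow, ← hx, pow_orderOf_eq_one, OneMemClass.coe_one]⟩
    have hE : E ≠ ⊥ := fun h => hp.ne_one (by
      rw [h, Subgroup.mem_bot] at hxE
      rw [← hx, show x = 1 from Subtype.ext hxE, orderOf_one])
    haveI : IsMulCommutative E := ⟨⟨fun a b => Subtype.ext (hc a a.2.1 b b.2.1)⟩⟩
    have hEF : E = F := Subgroup.eq_of_le_of_card_ge (fun g hg => hg.1)
      (((hall ω₀ hω₀).2.2.2.symm.trans (abelian_normal hep hω₀ hE).2.2.2).le)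
    have hexp : ∀ g ∈ F, g ^ p = 1 := fun g hg => (hEF.ge hg : g ∈ E).2
    obtain ⟨e, he⟩ := IsPGroup.iff_card.1
      (show IsPGroup p F from fun g => ⟨1, Subtype.ext (by simpa using hexp g g.2)⟩)
    refine ⟨p, e, hp, Nat.one_le_iff_ne_zero.2 fun h => ?_, he, hexp⟩
    exact ((Subgroup.one_lt_card_iff_ne_bot F).mpr hF).ne' (by rw [he, h, pow_zero])

omit [Finite Ω] in
/-- A normal subgroup of the stabiliser, transitive on its orbits, normalises no proper
non-trivial subgroup of an abelian regular normal subgroup. -/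
theorem irreducible {N : Subgroup G} [hN : N.Normal] [IsMulCommutative N] [IsPretransitive N Ω]
    (hreg : ∀ ω : Ω, stabilizer N ω = ⊥) {M : Subgroup G} (hM : M ≤ stabilizer G α)
    (horb : ∀ ω : Ω, orbit M ω = orbit (stabilizer G α) ω) {L : Subgroup G} (hLN : L ≤ N)
    (hLM : ∀ m ∈ M, ∀ l ∈ L, m * l * m⁻¹ ∈ L) : L = ⊥ ∨ L = N := by
  have e : ∀ g : G, g • α = α → ∀ n : G, (g * n * g⁻¹) • α = g • n • α := fun g hg n => by
    rw [mul_smul, mul_smul, inv_smul_eq_iff.mpr hg.symm]
  rcases eq_or_ne L ⊥ with hL | hL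
  · exact Or.inl hL
  right
  haveI : L.Normal := by
    refine ⟨fun l hl g => ?_⟩
    obtain ⟨n, hn, hna⟩ := Perm.isPretransitive_subgroup_iff.1 ‹IsPretransitive N Ω› α (g • α)
    have hh : n⁻¹ * g ∈ stabilizer G α := by
      rw [mem_stabilizer_iff, mul_smul, inv_smul_eq_iff, hna]
    have h1 : (n⁻¹ * g) • l • α ∈ orbit M (l • α) := by
      rw [horb]; exact ⟨⟨_, hh⟩, rfl⟩
    obtain ⟨⟨m, hm⟩, hm'⟩ := h1
    have hml := hLM m hm l hl
    have h2 : (n⁻¹ * g) * l * (n⁻¹ * g)⁻¹ = m * l * m⁻¹ := by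
      have heq : ((n⁻¹ * g) * l * (n⁻¹ * g)⁻¹) • α = (m * l * m⁻¹) • α := by
        rw [e _ hh, e m (hM hm)]
        exact hm'.symm
      have := Perm.stabilizer_subgroup_eq_bot_iff.1 (hreg α) _
        (N.mul_mem (N.inv_mem (hLN hml)) (hN.conj_mem l (hLN hl) (n⁻¹ * g)))
        (by rw [mul_smul, heq, inv_smul_smul])
      exact (inv_mul_eq_one.mp this).symm
    have hc := congrArg Subtype.val (mul_comm' (⟨n, hn⟩ : N) ⟨_, hLN hml⟩)
    simp only [Subgroup.coe_mul] at hc
    have : g * l * g⁻¹ = n * ((n⁻¹ * g) * l * (n⁻¹ * g)⁻¹) * n⁻¹ := by group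
    rw [this, h2, hc, mul_inv_cancel_right]
    exact hml
  haveI : Nonempty Ω := ⟨α⟩
  exact Perm.eq_of_transitive_le_semiregular hLN (Perm.isPretransitive_of_normal hL) hreg

end Cfsg.Agent.ExtremelyPrimitive
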